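import Mathlib
import Cfsg.Agent.Lib.Involution.Basic

/-!
# Groups in which the subgroups of a cyclic group of even order share their normaliser

Basic consequences: normalisers are involution centralisers, the odd elements of an involution
centraliser commute, and the descent lemma for groups with all cyclic subgroups normal.
-/

set_option autoImplicit false

namespace Cfsg.Agent.Lib.CyclicNorm64

open Subgroup

universe u

variable {G : Type u} [Group G]

/-- The nontrivial subgroups of a cyclic subgroup of even order have its normaliser. -/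
def NormProp (G : Type u) [Group G] : Prop :=
  ∀ X : Subgroup G, IsCyclic X → Even (Nat.card X) → ∀ Y : Subgroup G, Y ≤ X → Y ≠ ⊥ →
    normalizer (X : Set G) = normalizer (Y : Set G)

/-- The centraliser of an element. -/
abbrev cent (t : G) : Subgroup G := centralizer ({t} : Set G)

theorem mem_cent {x t : G} : x ∈ cent t ↔ Commute x t := by
  rw [cent, mem_centralizer_singleton_iff]
  rfl

theorem conj_mem_of_mem_normalizer {g y : G} (hg : g ∈ normalizer (zpowers y : Set G)) :
    g * y * g⁻¹ ∈ zpowers y :=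
  (mem_normalizer_iff.mp hg y).mp (mem_zpowers y)

theorem commute_of_conj {g y : G} (h : g * y * g⁻¹ = y) : Commute g y :=
  mul_inv_eq_iff_eq_mul.mp h

theorem conj_of_commute {g y : G} (h : Commute g y) : g * y * g⁻¹ = y :=
  mul_inv_eq_iff_eq_mul.mpr h

/-- Elements normalising each other's cyclic groups, with trivial intersection, commute. -/
theorem commute_of_normalize_of_inf_bot {a b : G} (h1 : b * a * b⁻¹ ∈ zpowers a)
    (h2 : a * b * a⁻¹ ∈ zpowers b) (hd : ∀ c, c ∈ zpowers a → c ∈ zpowers b → c = 1) :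
    Commute a b := by
  have hc : a * b * a⁻¹ * b⁻¹ = 1 := by
    refine hd _ ?_ ((zpowers b).mul_mem h2 ((zpowers b).inv_mem (mem_zpowers b)))
    rw [show a * b * a⁻¹ * b⁻¹ = a * (b * a * b⁻¹)⁻¹ by group]
    exact (zpowers a).mul_mem (mem_zpowers a) ((zpowers a).inv_mem h1)
  exact commute_of_conj (mul_inv_eq_one.mp hc)

section Finite

variable [Finite G]

theorem normalizer_zpowers_invol {t : G} (ht : orderOf t = 2) :
    normalizer (zpowers t : Set G) = cent t := by
  ext g
  rw [mem_cent]
  constructor
  · intro hg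
    exact commute_of_conj (Involution.eq_of_mem_zpowers
      (by rw [Involution.orderOf_conj_eq, ht]) ht (conj_mem_of_mem_normalizer hg) (mem_zpowers t))
  · intro hg
    rw [mem_normalizer_iff]
    intro n
    constructor
    · rintro ⟨k, rfl⟩
      exact ⟨k, (conj_of_commute (hg.zpow_right k)).symm⟩
    · rintro ⟨k, hk⟩
      refine ⟨k, ?_⟩
      have h1 : g⁻¹ * t ^ k * g = n := by
        rw [show t ^ k = g * n * g⁻¹ from hk]; group
      simp only
      rw [← h1, mul_assoc, ← (hg.zpow_right k).eq, inv_mul_cancel_left]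

theorem even_orderOf_of_mem {t x : G} (ht : orderOf t = 2) (htx : t ∈ zpowers x) :
    Even (orderOf x) :=
  (Involution.eq_half_pow ht htx).1

theorem NormProp.normalizer_zpowers (h : NormProp G) {t x y : G} (ht : orderOf t = 2)
    (htx : t ∈ zpowers x) (hy : y ∈ zpowers x) (hy1 : y ≠ 1) :
    normalizer (zpowers y : Set G) = cent t := by
  have hc : IsCyclic (zpowers x) := inferInstance
  have he : Even (Nat.card (zpowers x)) := by
    rw [Nat.card_zpowers]; exact even_orderOf_of_mem ht htx
  rw [← h _ hc he _ ((zpowers_le).mpr hy) (by rwa [Ne, zpowers_eq_bot]),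
    h _ hc he _ ((zpowers_le).mpr htx) (by rw [Ne, zpowers_eq_bot]; exact Involution.ne_one ht),
    normalizer_zpowers_invol ht]

theorem NormProp.conj_mem (h : NormProp G) {t x g : G} (ht : orderOf t = 2) (htx : t ∈ zpowers x)
    (hg : Commute g t) : g * x * g⁻¹ ∈ zpowers x := by
  refine conj_mem_of_mem_normalizer ?_
  rw [h.normalizer_zpowers ht htx (mem_zpowers x) ?_]
  · exact mem_cent.mpr hg
  · rintro rfl
    rw [zpowers_one_eq_bot, mem_bot] at htx
    exact Involution.ne_one ht htx

/-- An element of odd order commuting with an involution. -/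
theorem mem_zpowers_mul_invol {y t : G} (ht : orderOf t = 2) (hy : Odd (orderOf y))
    (hc : Commute y t) : t ∈ zpowers (y * t) ∧ y ∈ zpowers (y * t) := by
  have h1 : t ∈ zpowers (y * t) := by
    refine ⟨(orderOf y : ℤ), ?_⟩
    simp only
    rw [zpow_natCast, hc.mul_pow, pow_orderOf_eq_one, one_mul]
    obtain ⟨k, hk⟩ := hy
    rw [hk, pow_succ, pow_mul, pow_two, Involution.mul_self_eq_one ht, one_pow, one_mul]
  refine ⟨h1, ?_⟩
  have := (zpowers (y * t)).mul_mem (mem_zpowers (y * t)) h1
  rwa [mul_assoc, Involution.mul_self_eq_one ht, mul_one] at this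

theorem NormProp.normalizer_odd (h : NormProp G) {y t : G} (ht : orderOf t = 2)
    (hy : Odd (orderOf y)) (hy1 : y ≠ 1) (hc : Commute y t) :
    normalizer (zpowers y : Set G) = cent t :=
  h.normalizer_zpowers ht (mem_zpowers_mul_invol ht hy hc).1 (mem_zpowers_mul_invol ht hy hc).2 hy1

theorem NormProp.conj_mem_odd (h : NormProp G) {y t g : G} (ht : orderOf t = 2)
    (hy : Odd (orderOf y)) (hc : Commute y t) (hg : Commute g t) :
    g * y * g⁻¹ ∈ zpowers y := by
  rcases eq_or_ne y 1 with rfl | hy1
  · simp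
  · refine conj_mem_of_mem_normalizer ?_
    rw [h.normalizer_odd ht hy hy1 hc]
    exact mem_cent.mpr hg

/-- Two involutions centralising the same nontrivial element of odd order have equal
centralisers. -/
theorem NormProp.cent_eq (h : NormProp G) {y s t : G} (hs : orderOf s = 2) (ht : orderOf t = 2)
    (hy : Odd (orderOf y)) (hy1 : y ≠ 1) (hcs : Commute y s) (hct : Commute y t) :
    cent s = cent t :=
  (h.normalizer_odd hs hy hy1 hcs).symm.trans (h.normalizer_odd ht hy hy1 hct)

/-- In a `p`-group in which cyclic subgroups are normal, and for `p = 2` the elements of order at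
most four are central, all elements commute. -/
theorem commute_of_all_normalize {p : ℕ} [hp : Fact p.Prime] (S : Subgroup G) (hS : IsPGroup p S)
    (hn : ∀ a ∈ S, ∀ b ∈ S, b * a * b⁻¹ ∈ zpowers a)
    (h4 : p = 2 → ∀ a ∈ S, ∀ b ∈ S, a ^ 4 = 1 → Commute a b) :
    ∀ g ∈ S, ∀ h ∈ S, Commute g h := by
  suffices H : ∀ n, ∀ g ∈ S, ∀ h ∈ S, orderOf g + orderOf h = n → orderOf g ≤ orderOf h →
      Commute g h by
    intro g hg h hh
    rcases le_total (orderOf g) (orderOf h) with hle | hle
    · exact H _ g hg h hh rfl hle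
    · exact (H _ h hh g hg rfl hle).symm
  intro n
  induction n using Nat.strong_induction_on with
  | _ n ih =>
    intro g hg h hh hn' hle
    have IH : ∀ a ∈ S, ∀ b ∈ S, orderOf a + orderOf b < n → Commute a b := by
      intro a ha b hb hlt
      rcases le_total (orderOf a) (orderOf b) with hle | hle
      · exact ih _ hlt a ha b hb rfl hle
      · exact (ih _ (by omega) b hb a ha rfl hle).symm
    obtain ⟨a, ha⟩ := (IsPGroup.iff_orderOf.mp hS) ⟨g, hg⟩
    rw [Subgroup.orderOf_mk] at ha
    obtain ⟨b, hb⟩ := (IsPGroup.iff_orderOf.mp hS) ⟨h, hh⟩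
    rw [Subgroup.orderOf_mk] at hb
    rcases Nat.eq_zero_or_pos a with rfl | hapos
    · rw [pow_zero, orderOf_eq_one_iff] at ha
      subst ha
      exact Commute.one_left h
    obtain ⟨c, rfl⟩ : ∃ c, a = c + 1 := ⟨a - 1, by omega⟩
    have h2p : 2 ≤ p := hp.out.two_le
    -- `g ^ p` commutes with `h`
    have hgp : Commute (g ^ p) h := by
      refine IH _ (S.pow_mem hg p) h hh ?_
      have hlt : orderOf (g ^ p) < orderOf g := by
        rw [orderOf_pow_of_dvd hp.out.ne_zero (ha ▸ dvd_pow_self p (by omega)), ha]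
        exact Nat.div_lt_self (pow_pos hp.out.pos _) hp.out.one_lt
      omega
    set e : G := g⁻¹ * (h * g * h⁻¹) with he
    have heg : e ∈ zpowers g :=
      (zpowers g).mul_mem ((zpowers g).inv_mem (mem_zpowers g)) (hn g hg h hh)
    have heh : e ∈ zpowers h := by
      have h1 : g⁻¹ * h * g ∈ zpowers h := by
        have := hn h hh g⁻¹ (S.inv_mem hg)
        rwa [inv_inv] at this
      rw [show e = g⁻¹ * h * g * h⁻¹ by rw [he]; group]
      exact (zpowers h).mul_mem h1 ((zpowers h).inv_mem (mem_zpowers h))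
    have hge : Commute g e := by
      obtain ⟨k, hk⟩ := heg
      rw [← hk]; exact (Commute.refl g).zpow_right k
    have hhe : Commute h e := by
      obtain ⟨k, hk⟩ := heh
      rw [← hk]; exact (Commute.refl h).zpow_right k
    have hhg : h * g * h⁻¹ = g * e := by rw [he, mul_inv_cancel_left]
    have hep : e ^ p = 1 := by
      have h1 : (h * g * h⁻¹) ^ p = g ^ p := by
        rw [conj_pow, conj_of_commute hgp.symm]
      rwa [hhg, hge.mul_pow, mul_eq_left] at h1
    rcases eq_or_ne e 1 with he1 | he1
    · rw [he1, mul_one] at hhg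
      exact (commute_of_conj hhg).symm
    -- `g ^ (p ^ c)` is a power of `h`
    have hgn : g ^ p ^ c ∈ zpowers h := by
      obtain ⟨i, hi⟩ := (mem_powers_iff_mem_zpowers.mpr heg : e ∈ Submonoid.powers g)
      simp only at hi
      have hdvd : p ^ (c + 1) ∣ i * p := by
        rw [← ha]; exact orderOf_dvd_of_pow_eq_one (by rw [pow_mul, hi, hep])
      rw [pow_succ] at hdvd
      obtain ⟨k, rfl⟩ := Nat.dvd_of_mul_dvd_mul_right hp.out.pos hdvd
      have hord : orderOf (g ^ p ^ c) = p := by
        rw [orderOf_pow_of_dvd (pow_ne_zero _ hp.out.ne_zero) (ha ▸ ⟨p, by ring⟩), ha, pow_succ,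
          Nat.mul_div_cancel_left _ (pow_pos hp.out.pos _)]
      have hk : k.gcd (orderOf (g ^ p ^ c)) = 1 := by
        rw [hord, ← Nat.coprime_iff_gcd_eq_one, Nat.coprime_comm, hp.out.coprime_iff_not_dvd]
        intro hd
        apply he1
        rw [← hi, pow_mul, ← orderOf_dvd_iff_pow_eq_one, hord]
        exact hd
      have h1 := mem_zpowers_pow_iff.mpr hk
      rw [← pow_mul, hi] at h1
      exact (zpowers_le.mpr heh) h1
    by_cases hsmall : p = 2 ∧ c ≤ 1
    · obtain ⟨rfl, hc1⟩ := hsmall
      refine h4 rfl g hg h hh ?_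
      rw [← orderOf_dvd_iff_pow_eq_one, ha]
      exact (pow_dvd_pow 2 (show c + 1 ≤ 2 by omega)).trans (dvd_refl _)
    rcases Nat.eq_zero_or_pos c with rfl | hcpos
    · rw [pow_zero, pow_one] at hgn
      obtain ⟨k, hk⟩ := hgn
      rw [← hk]; exact (Commute.refl h).zpow_left k
    -- adjust `g` by a power of `h`
    obtain ⟨k, hk⟩ := (mem_powers_iff_mem_zpowers.mpr hgn : g ^ p ^ c ∈ Submonoid.powers h)
    simp only at hk
    have hcb : c + 1 ≤ b := by
      have : p ^ (c + 1) ≤ p ^ b := by rw [← ha, ← hb]; exact hle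
      exact (Nat.pow_le_pow_iff_right hp.out.one_lt).mp this
    have hkdvd : p ^ c ∣ k := by
      have h1 : h ^ (k * p) = 1 := by
        rw [pow_mul, hk, ← pow_mul, ← pow_succ, ← ha, pow_orderOf_eq_one]
      have h2 := orderOf_dvd_of_pow_eq_one h1
      rw [hb, show b = (b - 1) + 1 by omega, pow_succ] at h2
      exact (pow_dvd_pow p (show c ≤ b - 1 by omega)).trans
        (Nat.dvd_of_mul_dvd_mul_right hp.out.pos h2)
    obtain ⟨j, rfl⟩ := hkdvd
    set z : G := (h⁻¹) ^ j with hz
    set f : G := e⁻¹ ^ j with hf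
    have hzg : z * g = g * z * f := by
      have h1 : h⁻¹ * g * h = g * e⁻¹ := by
        have h2 : h * (g * e⁻¹) * h⁻¹ = g := by
          rw [show h * (g * e⁻¹) * h⁻¹ = h * g * h⁻¹ * (h * e⁻¹ * h⁻¹) by group, hhg,
            conj_of_commute hhe.inv_right, mul_inv_cancel_right]
        calc h⁻¹ * g * h = h⁻¹ * (h * (g * e⁻¹) * h⁻¹) * h := by rw [h2]
          _ = g * e⁻¹ := by group
      have h2 : ∀ m : ℕ, h⁻¹ ^ m * g = g * h⁻¹ ^ m * e⁻¹ ^ m := by
        intro m
        induction m with
        | zero => simp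
        | succ m ihm =>
          calc h⁻¹ ^ (m + 1) * g = h⁻¹ * (h⁻¹ ^ m * g) := by rw [pow_succ']; group
            _ = (h⁻¹ * g * h) * (h⁻¹ * h⁻¹ ^ m) * e⁻¹ ^ m := by rw [ihm]; group
            _ = g * (e⁻¹ * h⁻¹ ^ (m + 1)) * e⁻¹ ^ m := by rw [h1, ← pow_succ']; group
            _ = g * h⁻¹ ^ (m + 1) * e⁻¹ ^ (m + 1) := by
                rw [((hhe.symm.inv_inv).pow_right (m + 1)).eq, pow_succ' e⁻¹]; group
      exact h2 j
    have hfg : Commute f g := (hge.symm.inv_left).pow_left j
    have hfz : Commute f z := ((hhe.symm.inv_inv).pow_pow j j)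
    have hpow : ∀ m : ℕ, (g * z) ^ m = g ^ m * z ^ m * f ^ m.choose 2 := by
      intro m
      induction m with
      | zero => simp
      | succ m ihm =>
        have h3 : ∀ i : ℕ, z ^ i * g = g * z ^ i * f ^ i := by
          intro i
          induction i with
          | zero => simp
          | succ i ihi =>
            calc z ^ (i + 1) * g = z * (z ^ i * g) := by rw [pow_succ']; group
              _ = z * g * (z ^ i * f ^ i) := by rw [ihi]; group
              _ = g * z * (f * z ^ i) * f ^ i := by rw [hzg]; group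
              _ = g * z * (z ^ i * f) * f ^ i := by rw [(hfz.pow_right i).eq]
              _ = g * z ^ (i + 1) * f ^ (i + 1) := by
                  rw [pow_succ' z, pow_succ' f]; group
        calc (g * z) ^ (m + 1) = g ^ m * z ^ m * (f ^ m.choose 2 * (g * z)) := by
              rw [pow_succ, ihm]; group
          _ = g ^ m * z ^ m * ((g * z) * f ^ m.choose 2) := by
              rw [((hfg.mul_right hfz).pow_left _).eq]
          _ = g ^ m * (z ^ m * g) * z * f ^ m.choose 2 := by group
          _ = g ^ (m + 1) * z ^ m * (f ^ m * z) * f ^ m.choose 2 := by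
              rw [h3 m, pow_succ g]; group
          _ = g ^ (m + 1) * z ^ m * (z * f ^ m) * f ^ m.choose 2 := by
              rw [(hfz.pow_left m).eq]
          _ = g ^ (m + 1) * z ^ (m + 1) * f ^ (m + 1).choose 2 := by
              rw [Nat.choose_succ_succ' m 1, Nat.choose_one_right, pow_add f, pow_succ z]; group
    have hgz : (g * z) ^ p ^ c = 1 := by
      rw [hpow, hz, ← pow_mul, mul_comm j, inv_pow, hk, mul_inv_cancel, one_mul]
      have hd : p ∣ (p ^ c).choose 2 := by
        refine hp.out.dvd_choose_pow two_ne_zero ?_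
        intro he2
        apply hsmall
        have : p ∣ 2 := he2 ▸ dvd_pow_self p (by omega)
        have hp2 : p = 2 := (Nat.prime_dvd_prime_iff_eq hp.out Nat.prime_two).mp this
        refine ⟨hp2, ?_⟩
        rw [hp2] at he2
        exact le_of_eq (Nat.pow_right_injective le_rfl (show 2 ^ c = 2 ^ 1 by omega))
      obtain ⟨m, hm⟩ := hd
      rw [hm, hf, ← pow_mul, show j * (p * m) = p * (j * m) by ring, pow_mul, inv_pow, hep,
        inv_one, one_pow]
    have hzS : z ∈ S := S.pow_mem (S.inv_mem hh) j
    have hlt : orderOf (g * z) + orderOf h < n := by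
      have := Nat.le_of_dvd (pow_pos hp.out.pos _) (orderOf_dvd_of_pow_eq_one hgz)
      have : p ^ c < p ^ (c + 1) := Nat.pow_lt_pow_right hp.out.one_lt (by omega)
      omega
    have h5 := (IH _ (S.mul_mem hg hzS) h hh hlt).mul_left
      (((Commute.refl h).inv_left).pow_left j : Commute z h).inv_left
    rwa [mul_inv_cancel_right] at h5

/-- Elements of odd order centralising an involution commute. -/
theorem NormProp.commute_odd (h : NormProp G) {t : G} (ht : orderOf t = 2) {y z : G}
    (hy : Odd (orderOf y)) (hz : Odd (orderOf z)) (hyt : Commute y t) (hzt : Commute z t) :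
    Commute y z := by
  have hpp : ∀ p q a b : ℕ, p.Prime → q.Prime → ∀ y z : G, orderOf y = p ^ a → orderOf z = q ^ b →
      Odd (orderOf y) → Odd (orderOf z) → Commute y t → Commute z t → Commute y z := by
    intro p q a b hp hq y z hpy hqz hy hz hyt hzt
    have := Fact.mk hp
    by_cases hpq : p = q
    · subst hpq
      rcases Nat.eq_zero_or_pos a with rfl | hapos
      · rw [pow_zero, orderOf_eq_one_iff] at hpy
        subst hpy; exact Commute.one_left z
      have hpodd : p ≠ 2 := by
        rintro rfl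
        rw [hpy, Nat.odd_pow_iff (by omega)] at hy
        exact absurd hy (by decide)
      have hY : IsPGroup p (zpowers y) := IsPGroup.of_card (n := a) (by rw [Nat.card_zpowers, hpy])
      have hZ : IsPGroup p (zpowers z) := IsPGroup.of_card (n := b) (by rw [Nat.card_zpowers, hqz])
      have hYZ : IsPGroup p (zpowers z ⊔ zpowers y : Subgroup G) := by
        refine hZ.to_sup_of_normal_right' hY ?_
        rw [zpowers_le]
        rcases eq_or_ne y 1 with rfl | hy1
        · exact absurd hpy.symm (by rw [orderOf_one]; exact (Nat.one_lt_pow (by omega) hp.one_lt).ne')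
        · rw [h.normalizer_odd ht hy hy1 hyt]
          exact mem_cent.mpr hzt
      have hle : zpowers z ⊔ zpowers y ≤ cent t :=
        sup_le (zpowers_le.mpr (mem_cent.mpr hzt)) (zpowers_le.mpr (mem_cent.mpr hyt))
      refine commute_of_all_normalize _ hYZ (fun c hc d hd => ?_) (fun hp2 => absurd hp2 hpodd) y
        (mem_sup_right (mem_zpowers y)) z (mem_sup_left (mem_zpowers z))
      obtain ⟨k, hk⟩ := (IsPGroup.iff_orderOf.mp hYZ) ⟨c, hc⟩
      rw [Subgroup.orderOf_mk] at hk
      refine h.conj_mem_odd ht ?_ (mem_cent.mp (hle hc)) (mem_cent.mp (hle hd))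
      rw [hk]
      exact (hp.odd_of_ne_two hpodd).pow
    · refine commute_of_normalize_of_inf_bot (h.conj_mem_odd ht hy hyt hzt)
        (h.conj_mem_odd ht hz hzt hyt) fun c h1 h2 => ?_
      rw [← orderOf_eq_one_iff]
      refine Nat.eq_one_of_dvd_coprimes (((Nat.coprime_primes hp hq).mpr hpq).pow a b) ?_ ?_
      · rw [← hpy, ← Nat.card_zpowers y]; exact Subgroup.orderOf_dvd_natCard _ h1
      · rw [← hqz, ← Nat.card_zpowers z]; exact Subgroup.orderOf_dvd_natCard _ h2
  -- split into prime power parts
  have hsplit : ∀ (P : G → Prop), (∀ a b, P a → P b → P (a * b)) →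
      (∀ p k : ℕ, p.Prime → ∀ x : G, orderOf x = p ^ k → Odd (orderOf x) → Commute x t → P x) →
      ∀ x : G, Odd (orderOf x) → Commute x t → P x := by
    intro P hmul hP
    suffices H : ∀ n : ℕ, ∀ x : G, orderOf x = n → Odd (orderOf x) → Commute x t → P x from
      fun x => H _ x rfl
    intro n
    induction n using Nat.recOnPosPrimePosCoprime with
    | prime_pow p k hp hk => exact fun x hx => hP p k hp x hx
    | zero => exact fun x hx => absurd hx (orderOf_pos x).ne'
    | one => exact fun x hx => hP 2 0 Nat.prime_two x (by rw [hx, pow_zero])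
    | coprime a b ha hb hab iha ihb =>
      intro x hx hodd hxt
      rw [hx, Nat.odd_mul] at hodd
      have hxa : orderOf (x ^ b) = a := by
        rw [orderOf_pow_of_dvd (by omega) (hx ▸ dvd_mul_left b a), hx,
          Nat.mul_div_cancel _ (by omega)]
      have hxb : orderOf (x ^ a) = b := by
        rw [orderOf_pow_of_dvd (by omega) (hx ▸ dvd_mul_right a b), hx,
          Nat.mul_div_cancel_left _ (by omega)]
      have hza : ∀ i : ℕ, P ((x ^ b) ^ i) := by
        intro i
        induction i with
        | zero => exact hP 2 0 Nat.prime_two _ (by simp) (by simp) (by simp)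
        | succ i ihi =>
          rw [pow_succ]
          exact hmul _ _ ihi (iha _ hxa (hxa.symm ▸ hodd.1) (hxt.pow_left b))
      have hzb : ∀ i : ℕ, P ((x ^ a) ^ i) := by
        intro i
        induction i with
        | zero => exact hP 2 0 Nat.prime_two _ (by simp) (by simp) (by simp)
        | succ i ihi =>
          rw [pow_succ]
          exact hmul _ _ ihi (ihb _ hxb (hxb.symm ▸ hodd.2) (hxt.pow_left a))
      obtain ⟨i, -, hi⟩ := Nat.exists_mul_mod_eq_one_of_coprime (Nat.Coprime.symm hab)
        (show 1 < a by omega)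
      obtain ⟨j, -, hj⟩ := Nat.exists_mul_mod_eq_one_of_coprime hab (show 1 < b by omega)
      have : x = (x ^ b) ^ i * (x ^ a) ^ j := by
        rw [← pow_mul, ← pow_mul, ← pow_add]
        conv_lhs => rw [← pow_one x]
        rw [pow_eq_pow_iff_modEq, hx]
        have h1 : 1 ≡ b * i + a * j [MOD a] := by
          unfold Nat.ModEq
          rw [Nat.add_mul_mod_self_left, hi, Nat.one_mod_eq_one.mpr (by omega)]
        have h2 : 1 ≡ b * i + a * j [MOD b] := by
          unfold Nat.ModEq
          rw [add_comm, Nat.add_mul_mod_self_left, hj, Nat.one_mod_eq_one.mpr (by omega)]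
        exact (Nat.modEq_and_modEq_iff_modEq_mul hab).mp ⟨h1, h2⟩
      rw [this]
      exact hmul _ _ (hza i) (hzb j)
  exact hsplit (fun x => Commute x z) (fun a b ha hb => ha.mul_left hb)
    (fun p a hp x hx hxo hxt => hsplit (fun w => Commute x w) (fun _ _ ha hb => ha.mul_right hb)
      (fun q b hq w hw hwo hwt => hpp p q a b hp hq x w hx hw hxo hwo hxt hwt) z hz hzt) y hy hyt

/-- The elements of odd order in the centraliser of an involution. -/
def NormProp.oddPart (h : NormProp G) {t : G} (ht : orderOf t = 2) : Subgroup G where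
  carrier := {y | Commute y t ∧ Odd (orderOf y)}
  one_mem' := ⟨Commute.one_left t, by simp⟩
  mul_mem' := fun {a b} ha hb => ⟨ha.1.mul_left hb.1,
    (ha.2.mul hb.2).of_dvd_nat (h.commute_odd ht ha.2 hb.2 ha.1 hb.1).orderOf_mul_dvd_mul_orderOf⟩
  inv_mem' := fun {a} ha => ⟨ha.1.inv_left, by rw [orderOf_inv]; exact ha.2⟩

theorem NormProp.mem_oddPart (h : NormProp G) {t : G} (ht : orderOf t = 2) {y : G} :
    y ∈ h.oddPart ht ↔ Commute y t ∧ Odd (orderOf y) := Iff.rfl

theorem NormProp.oddPart_le_cent (h : NormProp G) {t : G} (ht : orderOf t = 2) :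
    h.oddPart ht ≤ cent t := fun _ hy => mem_cent.mpr hy.1

theorem NormProp.oddPart_conj (h : NormProp G) {t : G} (ht : orderOf t = 2) {y g : G}
    (hy : y ∈ h.oddPart ht) (hg : Commute g t) : g * y * g⁻¹ ∈ h.oddPart ht :=
  (zpowers_le.mpr hy) (h.conj_mem_odd ht hy.2 hy.1 hg)

theorem NormProp.odd_card_oddPart (h : NormProp G) {t : G} (ht : orderOf t = 2) :
    Odd (Nat.card (h.oddPart ht)) := by
  rw [← Nat.not_even_iff_odd, even_iff_two_dvd]
  intro hd
  have : Fact (Nat.Prime 2) := ⟨Nat.prime_two⟩
  obtain ⟨y, hy⟩ := exists_prime_orderOf_dvd_card' (G := h.oddPart ht) 2 hd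
  have := y.2.2
  rw [Subgroup.orderOf_coe, hy] at this
  exact absurd this (by decide)

end Finite

end Cfsg.Agent.Lib.CyclicNorm64
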