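import Mathlib

/-!
# Squares and norms in finite fields with an automorphism
-/

set_option autoImplicit false

namespace Cfsg.Agent.Lib.CyclicNorm64

variable {F : Type*} [Field F] [Fintype F]

/-- The action of a field automorphism on units. -/
def sU (σ : F ≃+* F) : Fˣ →* Fˣ := Units.map (σ.toRingHom : F →* F)

theorem coe_sU (σ : F ≃+* F) (a : Fˣ) : ((sU σ a : Fˣ) : F) = σ (a : F) := rfl

theorem isSquare_mul_of_not {a b : Fˣ} (ha : ¬ IsSquare a) (hb : ¬ IsSquare b) :
    IsSquare (a * b) := by
  obtain ⟨g, hg⟩ := IsCyclic.exists_monoid_generator (α := Fˣ)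
  obtain ⟨i, rfl⟩ := Submonoid.mem_powers_iff _ _ |>.mp (hg a)
  obtain ⟨j, rfl⟩ := Submonoid.mem_powers_iff _ _ |>.mp (hg b)
  have hodd : ∀ n : ℕ, ¬ IsSquare (g ^ n) → Odd n := fun n hn =>
    Nat.not_even_iff_odd.mp fun he => hn (he.isSquare_pow g)
  rw [← pow_add]
  exact ((hodd i ha).add_odd (hodd j hb)).isSquare_pow g

theorem isSquare_sU_mul_self (σ : F ≃+* F) (a : Fˣ) : IsSquare (sU σ a * a) := by
  by_cases ha : IsSquare a
  · exact (ha.map (sU σ)).mul ha
  · refine isSquare_mul_of_not (fun h => ha ?_) ha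
    have : sU σ.symm (sU σ a) = a := Units.ext (σ.symm_apply_apply (a : F))
    exact this ▸ h.map (sU σ.symm)

theorem isSquare_of_char_two (h2 : ringChar F = 2) (a : Fˣ) : IsSquare a := by
  have hodd : Odd (Nat.card Fˣ) := by
    rw [Nat.card_units, Nat.card_eq_fintype_card, Nat.odd_iff]
    have := FiniteField.even_card_iff_char_two.mp h2
    have := Fintype.card_pos (α := F)
    omega
  obtain ⟨k, hk⟩ := hodd
  refine ⟨a ^ (k + 1), ?_⟩
  rw [← pow_add, show k + 1 + (k + 1) = Nat.card Fˣ + 1 by omega, pow_succ, pow_card_eq_one', one_mul]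

/-- For an involutory automorphism every fixed unit is a norm. -/
theorem exists_norm_eq {σ : F ≃+* F} (hσ : σ ≠ 1) (hinv : ∀ x, σ (σ x) = x) {k : Fˣ}
    (hk : sU σ k = k) : ∃ a : Fˣ, sU σ a * a = k := by
  have hinvU : ∀ a, sU σ (sU σ a) = a := fun a => Units.ext (hinv _)
  let N : Fˣ →* Fˣ := sU σ * MonoidHom.id Fˣ
  let f : Fˣ →* Fˣ := MonoidHom.id Fˣ / sU σ
  have hN : ∀ a, N a = sU σ a * a := fun a => rfl
  have hf : ∀ a, f a = a / sU σ a := fun a => rfl
  have hfN : f.range = N.ker := by
    ext e
    rw [MonoidHom.mem_range, MonoidHom.mem_ker, hN]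
    constructor
    · rintro ⟨a, rfl⟩
      rw [hf, map_div, hinvU, div_mul_div_comm, mul_comm, div_self']
    · intro he
      obtain ⟨x, hx⟩ : ∃ x : F, x + (e : F) * σ x ≠ 0 := by
        by_contra hc
        push Not at hc
        have h1 := hc 1
        rw [map_one, mul_one, add_eq_zero_iff_eq_neg'] at h1
        exact hσ (RingEquiv.ext fun x => by
          have h2 := hc x
          rw [h1, neg_one_mul, add_neg_eq_zero] at h2
          exact h2.symm)
      refine ⟨Units.mk0 _ hx, ?_⟩
      rw [hf, div_eq_iff_eq_mul]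
      apply Units.ext
      have he' : σ (e : F) * (e : F) = 1 := congrArg Units.val he
      simp only [Units.val_mul, Units.val_mk0, coe_sU, map_add, map_mul, hinv]
      linear_combination (-x) * he'
  have hrange : N.range ≤ f.ker := by
    rintro _ ⟨a, rfl⟩
    rw [MonoidHom.mem_ker, hN, hf, map_mul, hinvU, mul_comm a, div_self']
  have hcard : Nat.card f.ker ≤ Nat.card N.range := by
    have h1 := f.ker.card_mul_index
    have h2 := N.ker.card_mul_index
    rw [Subgroup.index_ker] at h1 h2
    rw [hfN] at h1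
    have hpos : 0 < Nat.card N.ker := Nat.card_pos
    exact le_of_eq (Nat.eq_of_mul_eq_mul_right hpos (h1.trans (h2.symm.trans (mul_comm _ _))))
  have := Subgroup.eq_of_le_of_card_ge hrange hcard
  obtain ⟨a, ha⟩ : k ∈ N.range := by
    rw [this, MonoidHom.mem_ker, hf, hk, div_self']
  exact ⟨a, ha⟩

/-- In a field with more than four elements and characteristic two an involutory automorphism
fixes an element other than `0` and `1`. -/
theorem exists_fixed_ne (h2 : ringChar F = 2) (h5 : 4 < Fintype.card F) {σ : F ≃+* F}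
    (hinv : ∀ x, σ (σ x) = x) : ∃ c : F, σ c = c ∧ c ≠ 0 ∧ c ≠ 1 := by
  classical
  have : CharP F 2 := h2 ▸ ringChar.charP F
  by_contra hcon
  push Not at hcon
  have hroot : ∀ a : F, a ≠ 0 → a ≠ 1 → a * a + a + 1 = 0 := by
    intro a h0 h1
    have hne : σ a ≠ a := fun e => h1 (hcon a e h0)
    have hP : σ a * a = 1 :=
      hcon _ (by rw [map_mul, hinv, mul_comm]) (mul_ne_zero ((map_ne_zero σ).mpr h0) h0)
    have hS : σ a + a = 1 :=
      hcon _ (by rw [map_add, hinv, add_comm]) fun e => hne (CharTwo.add_eq_zero.mp e)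
    have h4 : (2 : F) = 0 := CharTwo.two_eq_zero
    linear_combination -hP + a * hS + a * h4
  -- at most two roots
  have hle : Fintype.card F ≤ 4 := by
    obtain ⟨a, ha0, ha1⟩ : ∃ a : F, a ≠ 0 ∧ a ≠ 1 := by
      by_contra hc
      push Not at hc
      have : (Finset.univ : Finset F) ⊆ {0, 1} := fun x _ => by
        rcases eq_or_ne x 0 with rfl | hx
        · simp
        · simp [hc x hx]
      have h6 := (Finset.card_le_card this).trans Finset.card_le_two
      rw [Finset.card_univ] at h6
      omega
    have : (Finset.univ : Finset F) ⊆ {0, 1, a, a + 1} := fun x _ => by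
      rcases eq_or_ne x 0 with rfl | hx0
      · simp
      rcases eq_or_ne x 1 with rfl | hx1
      · simp
      have hmul : (x - a) * (x + a + 1) = 0 := by
        linear_combination hroot x hx0 hx1 - hroot a ha0 ha1
      rcases mul_eq_zero.mp hmul with h | h
      · simp [sub_eq_zero.mp h]
      · have : x = a + 1 := by
          rw [add_assoc] at h
          exact CharTwo.add_eq_zero.mp h
        simp [this]
    have h6 := (Finset.card_le_card this).trans Finset.card_le_four
    rwa [Finset.card_univ] at h6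
  omega

end Cfsg.Agent.Lib.CyclicNorm64
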