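import Cfsg.Agent.Lib.CyclicNorm64.Transfer
import Cfsg.Agent.Lib.CyclicNorm64.Field
import Cfsg.Agent.Lib.CharSimple.Basic
import Cfsg.Agent.Lib.PSLAut.Kernel

/-!
# Overgroups of `PSL₂(q)` in its automorphism group with the normaliser property

They induce no field automorphism.
-/

set_option autoImplicit false
set_option linter.unusedSectionVars false

namespace Cfsg.Agent.Lib.CyclicNorm64

open Subgroup
open scoped MatrixGroups
open PSLAut

variable {F : Type*} [Field F] [Fintype F]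

/-- The automorphism of `PSL₂` induced by `diag(δ, 1)`. -/
noncomputable def cD : Fˣ →* MulAut (PSLn 2 F) where
  toFun δ := conj (torus ![δ, 1])
  map_one' := by
    rw [show torus ![(1 : Fˣ), 1] = (1 : GL (Fin 2) F) from Units.ext <| by
      ext i j; fin_cases i <;> fin_cases j <;> simp [torus], map_one]
  map_mul' a b := by
    rw [← map_mul]
    congr 1
    apply Units.ext
    ext i j
    fin_cases i <;> fin_cases j <;> simp [torus]

theorem cD_apply (δ : Fˣ) : cD δ = conj (torus ![δ, 1]) := rfl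

theorem fieldAut_mul_cD (σ : F ≃+* F) (δ : Fˣ) :
    fieldAut σ * cD δ = cD (sU σ δ) * fieldAut σ := by
  rw [cD_apply, cD_apply, fieldAut_mul_conj]
  congr 2
  apply Units.ext
  ext i j
  fin_cases i <;> fin_cases j <;> simp [torus, glField, coe_sU]

/-- `diag(c, c⁻¹)` in `SL₂`. -/
def torSL (c : Fˣ) : SLn 2 F :=
  ⟨!![(c : F), 0; 0, ((c⁻¹ : Fˣ) : F)], by simp [Matrix.det_fin_two]⟩

theorem coe_torSL (c : Fˣ) :
    (torSL c : Matrix (Fin 2) (Fin 2) F) = !![(c : F), 0; 0, ((c⁻¹ : Fˣ) : F)] := rfl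

/-- `[[1, t], [0, 1]]` in `SL₂`. -/
def upperSL (t : F) : SLn 2 F := ⟨!![1, t; 0, 1], by simp [Matrix.det_fin_two]⟩

theorem coe_upperSL (t : F) : (upperSL t : Matrix (Fin 2) (Fin 2) F) = !![1, t; 0, 1] := rfl

/-- `diag(c, c⁻¹)` in `PSL₂`. -/
noncomputable def tor : Fˣ →* PSLn 2 F :=
  proj.comp
    { toFun := torSL
      map_one' := by
        apply Subtype.ext; ext i j; fin_cases i <;> fin_cases j <;> simp [coe_torSL]
      map_mul' := fun a b => by
        apply Subtype.ext
        ext i j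
        fin_cases i <;> fin_cases j <;>
          simp [coe_torSL, Matrix.mul_apply, Fin.sum_univ_two, mul_comm] }

theorem tor_apply (c : Fˣ) : tor c = proj (torSL c) := rfl

/-- The upper unitriangular elements of `PSL₂`. -/
noncomputable def upper : Multiplicative F →* PSLn 2 F :=
  proj.comp
    { toFun := fun t => upperSL t.toAdd
      map_one' := by
        apply Subtype.ext; ext i j; fin_cases i <;> fin_cases j <;> simp [coe_upperSL]
      map_mul' := fun a b => by
        apply Subtype.ext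
        ext i j
        fin_cases i <;> fin_cases j <;>
          simp [coe_upperSL, Matrix.mul_apply, Fin.sum_univ_two, add_comm] }

theorem upper_ofAdd (t : F) : upper (Multiplicative.ofAdd t) = proj (upperSL t) := rfl

/-- The Weyl element `[[0, 1], [-1, 0]]`. -/
def wSL : SLn 2 F := ⟨!![0, 1; -1, 0], by simp [Matrix.det_fin_two]⟩

theorem coe_wSL : ((wSL : SLn 2 F) : Matrix (Fin 2) (Fin 2) F) = !![0, 1; -1, 0] := rfl

/-- Its image in `PSL₂`. -/
noncomputable def wP : PSLn 2 F := proj wSL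

theorem proj_entries {s t : SLn 2 F} (h : proj s = proj t) :
    ∃ c : F, ∀ i j, (t : Matrix (Fin 2) (Fin 2) F) i j = c * (s : Matrix (Fin 2) (Fin 2) F) i j := by
  obtain ⟨c, hc⟩ := proj_eq_proj_iff.mp h
  exact ⟨c, fun i j => by rw [hc]; rfl⟩

theorem upper_ofAdd_injective {a b : F}
    (h : upper (Multiplicative.ofAdd a) = upper (Multiplicative.ofAdd b)) : a = b := by
  rw [upper_ofAdd, upper_ofAdd] at h
  obtain ⟨c, hc⟩ := proj_entries h
  have h0 := hc 0 0
  have h1 := hc 0 1
  simp [coe_upperSL] at h0 h1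
  rw [h1, ← h0, one_mul]

theorem fieldAut_upper (σ : F ≃+* F) (t : F) :
    fieldAut σ (upper (Multiplicative.ofAdd t)) = upper (Multiplicative.ofAdd (σ t)) := by
  rw [upper_ofAdd, upper_ofAdd, fieldAut_proj]
  refine congrArg proj (Subtype.ext ?_)
  rw [coe_map_sl]
  ext i j
  fin_cases i <;> fin_cases j <;> simp [coe_upperSL]

theorem fieldAut_tor (σ : F ≃+* F) (c : Fˣ) : fieldAut σ (tor c) = tor (sU σ c) := by
  rw [tor_apply, tor_apply, fieldAut_proj]
  refine congrArg proj (Subtype.ext ?_)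
  rw [coe_map_sl]
  ext i j
  fin_cases i <;> fin_cases j <;> simp [coe_torSL, coe_sU]

theorem fieldAut_wP (σ : F ≃+* F) : fieldAut σ (wP : PSLn 2 F) = wP := by
  show fieldAut σ (proj _) = proj _
  rw [fieldAut_proj]
  refine congrArg proj (Subtype.ext ?_)
  rw [coe_map_sl]
  ext i j
  fin_cases i <;> fin_cases j <;> simp [coe_wSL]

theorem wP_mul_self : (wP : PSLn 2 F) * wP = 1 := by
  rw [wP, ← map_mul, ← map_one (proj (F := F) (n := 2))]
  refine proj_eq_proj_iff.mpr ⟨-1, ?_⟩
  ext i j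
  fin_cases i <;> fin_cases j <;> simp [coe_wSL, Matrix.mul_apply, Fin.sum_univ_two]

theorem wP_ne_one : (wP : PSLn 2 F) ≠ 1 := by
  intro h
  rw [wP, ← map_one (proj (F := F) (n := 2))] at h
  obtain ⟨c, hc⟩ := proj_entries h
  have := hc 0 0
  simp [coe_wSL] at this

theorem upper_wP_ne (h : upper (Multiplicative.ofAdd (1 : F)) * wP
    = wP * upper (Multiplicative.ofAdd 1)) : False := by
  rw [wP, upper_ofAdd, ← map_mul, ← map_mul] at h
  obtain ⟨c, hc⟩ := proj_entries h
  have h1 := hc 0 0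
  have h2 := hc 1 1
  simp [coe_wSL, coe_upperSL, Matrix.mul_apply, Fin.sum_univ_two] at h1 h2

theorem cD_sq (c : Fˣ) : cD (c * c) = MulAut.conj (tor c) := by
  rw [tor_apply, ← conj_toGL, cD_apply]
  have h : torus ![c * c, 1] = Matrix.GeneralLinearGroup.scalar (Fin 2) c *
      Matrix.SpecialLinearGroup.toGL (torSL c) := by
    apply Units.ext
    ext i j
    fin_cases i <;> fin_cases j <;>
      simp [torus, coe_torSL, Matrix.GeneralLinearGroup.scalar, Matrix.mul_apply, Fin.sum_univ_two]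
  rw [h, map_mul, (PSLAut.conj_eq_one_iff _).mpr, one_mul]
  · rw [Matrix.GeneralLinearGroup.center_eq_range_scalar]
    exact ⟨c, rfl⟩

theorem cD_eq_one {δ : Fˣ} (h : cD δ = 1) : δ = 1 := by
  rw [cD_apply, PSLAut.conj_eq_one_iff, Matrix.GeneralLinearGroup.center_eq_range_scalar] at h
  obtain ⟨r, hr⟩ := h
  have h0 := congrArg (fun g : GL (Fin 2) F => (g : Matrix (Fin 2) (Fin 2) F) 0 0) hr
  have h1 := congrArg (fun g : GL (Fin 2) F => (g : Matrix (Fin 2) (Fin 2) F) 1 1) hr
  simp [torus, Matrix.GeneralLinearGroup.scalar] at h0 h1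
  exact Units.ext (by rw [← h0, h1, Units.val_one])

theorem cD_injective : Function.Injective (cD : Fˣ →* MulAut (PSLn 2 F)) :=
  (injective_iff_map_eq_one _).mpr fun _ => cD_eq_one

theorem conj_wP_mul_cD (δ : Fˣ) :
    MulAut.conj (wP : PSLn 2 F) * cD δ = cD δ⁻¹ * MulAut.conj wP := by
  rw [wP, ← conj_toGL, cD_apply, cD_apply, ← map_mul, ← map_mul]
  have h : Matrix.SpecialLinearGroup.toGL (wSL : SLn 2 F) * torus ![δ, 1] =
      Matrix.GeneralLinearGroup.scalar (Fin 2) δ *
        (torus ![δ⁻¹, 1] * Matrix.SpecialLinearGroup.toGL (wSL : SLn 2 F)) := by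
    apply Units.ext
    ext i j
    fin_cases i <;> fin_cases j <;>
      simp [coe_wSL, torus, Matrix.GeneralLinearGroup.scalar, Matrix.mul_apply, Fin.sum_univ_two]
  rw [h, map_mul conj (Matrix.GeneralLinearGroup.scalar (Fin 2) δ), (PSLAut.conj_eq_one_iff _).mpr, one_mul]
  rw [Matrix.GeneralLinearGroup.center_eq_range_scalar]
  exact ⟨δ, rfl⟩

theorem exists_conj_eq (g : GL (Fin 2) F) :
    ∃ (x : PSLn 2 F) (δ : Fˣ), conj g = MulAut.conj x * cD δ := by
  set δ : Fˣ := Matrix.GeneralLinearGroup.det g with hδ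
  have hdet : Matrix.GeneralLinearGroup.det (g * (torus ![δ, 1])⁻¹) = 1 := by
    rw [map_mul, map_inv, show Matrix.GeneralLinearGroup.det (torus ![δ, 1]) = δ from Units.ext (by
      rw [Matrix.GeneralLinearGroup.val_det_apply]; simp [torus, Matrix.det_fin_two]),
      mul_inv_cancel]
  obtain ⟨s, hs⟩ : ∃ s : SLn 2 F, Matrix.SpecialLinearGroup.toGL s = g * (torus ![δ, 1])⁻¹ := by
    refine ⟨⟨(g * (torus ![δ, 1])⁻¹ : GL (Fin 2) F), ?_⟩, Units.ext rfl⟩
    rw [← Matrix.GeneralLinearGroup.val_det_apply, hdet, Units.val_one]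
  refine ⟨proj s, δ, ?_⟩
  rw [← conj_toGL, hs, cD_apply, ← map_mul, inv_mul_cancel_right]

theorem exists_normal_form (β : MulAut (PSLn 2 F)) :
    ∃ (x : PSLn 2 F) (δ : Fˣ) (σ : F ≃+* F), β = MulAut.conj x * cD δ * fieldAut σ := by
  have hconj := exists_conj_eq (F := F)
  obtain ⟨g, σ, ε, hε, rfl⟩ := exists_eq_conj_mul_fieldAut_mul le_rfl β
  rcases hε with rfl | rfl
  · obtain ⟨x, δ, h⟩ := hconj g
    exact ⟨x, δ, σ, by rw [mul_one, h]⟩
  · obtain ⟨w, hw⟩ := invTrans_eq_conj_two (F := F)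
    obtain ⟨x, δ, h⟩ := hconj (g * glField σ w)
    refine ⟨x, δ, σ, ?_⟩
    rw [hw, mul_assoc, fieldAut_mul_conj, ← mul_assoc, ← map_mul, h]

theorem mulAut_conj_eq (β : MulAut (PSLn 2 F)) (x : PSLn 2 F) :
    β * MulAut.conj x * β⁻¹ = MulAut.conj (β x) := by
  refine MulEquiv.ext fun y => ?_
  simp [MulAut.inv_def]

theorem exists_pow_eq (σ : F ≃+* F) (δ : Fˣ) (n : ℕ) :
    ∃ N, (cD δ * fieldAut σ) ^ n = cD N * fieldAut (σ ^ n) ∧ IsSquare (N * δ ^ n) := by
  induction n with
  | zero => exact ⟨1, by simp, by simp⟩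
  | succ n ih =>
    obtain ⟨N, hN, hs⟩ := ih
    refine ⟨δ * sU σ N, ?_, ?_⟩
    · rw [pow_succ', hN, mul_assoc, ← mul_assoc (fieldAut σ), fieldAut_mul_cD, mul_assoc,
        ← mul_assoc (cD δ), ← map_mul, ← map_mul, ← pow_succ' σ]
    · have e : δ * sU σ N * δ ^ (n + 1) =
          (δ * δ) * ((sU σ N * N) * (N * δ ^ n) * (N * N)⁻¹) := by
        rw [eq_comm, pow_succ]
        calc δ * δ * (sU σ N * N * (N * δ ^ n) * (N * N)⁻¹)
            = δ * δ * (sU σ N * δ ^ n * (N * N * (N * N)⁻¹)) := by ac_rfl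
          _ = δ * sU σ N * (δ ^ n * δ) := by rw [mul_inv_cancel, mul_one]; ac_rfl
      rw [e]
      exact (IsSquare.mul_self δ).mul
        (((isSquare_sU_mul_self σ N).mul hs).mul (IsSquare.mul_self N).inv)

section Simple

variable (hinj : Function.Injective (MulAut.conj : PSLn 2 F →* MulAut (PSLn 2 F)))
include hinj

theorem commute_conj_iff (β : MulAut (PSLn 2 F)) (x : PSLn 2 F) :
    Commute β (MulAut.conj x) ↔ β x = x := by
  constructor
  · intro h
    apply hinj
    rw [← mulAut_conj_eq, h.eq, mul_inv_cancel_right]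
  · intro h
    exact mul_inv_eq_iff_eq_mul.mp (by rw [mulAut_conj_eq, h])

theorem fieldAut_injective : Function.Injective (fieldAut : (F ≃+* F) →* MulAut (PSLn 2 F)) := by
  refine (injective_iff_map_eq_one _).mpr fun σ h => ?_
  exact (conj_eq_fieldAut le_rfl (g := 1) (σ := σ) (by rw [map_one, h])).1

theorem orderOf_conj_wP : orderOf (MulAut.conj (wP : PSLn 2 F)) = 2 := by
  rw [orderOf_injective _ hinj]
  exact Involution.orderOf_eq_two wP_mul_self wP_ne_one

variable {Γ : Subgroup (MulAut (PSLn 2 F))} (hI : ∀ x : PSLn 2 F, MulAut.conj x ∈ Γ)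
  (h : NormProp Γ)
include hI h

/-- The group has no field automorphism of odd prime order. -/
theorem no_fieldAut_odd {σ : F ≃+* F} (hσ : fieldAut σ ∈ Γ) (hodd : Odd (orderOf σ))
    (hne : σ ≠ 1) : False := by
  have hφ : Odd (orderOf (fieldAut (n := 2) σ)) := by
    rwa [orderOf_injective _ (fieldAut_injective hinj)]
  have hφ1 : fieldAut (n := 2) σ ≠ 1 := fun e =>
    hne (fieldAut_injective hinj (e.trans (map_one _).symm))
  have h1 : Commute (MulAut.conj (upper (Multiplicative.ofAdd (1 : F)))) (fieldAut σ) :=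
    ((commute_conj_iff hinj _ _).mpr (by rw [fieldAut_upper, map_one])).symm
  have h2 := h.commute_of_subgroup (hI wP) hσ (hI _) (orderOf_conj_wP hinj) hφ hφ1
    ((commute_conj_iff hinj _ _).mpr (fieldAut_wP σ)) h1
  refine upper_wP_ne (hinj ?_)
  rw [map_mul, map_mul]
  exact h2.eq

/-- The group has no field automorphism of order two, unless `q = 4`. -/
theorem no_fieldAut_invol (h4 : 4 < Fintype.card F) {σ : F ≃+* F} (hσ : fieldAut σ ∈ Γ)
    (ho : orderOf σ = 2) : False := by
  have hinv : ∀ x, σ (σ x) = x := fun x => by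
    have e : σ * σ = 1 := by rw [← sq, ← ho, pow_orderOf_eq_one]
    exact RingEquiv.congr_fun e x
  have hne : σ ≠ 1 := fun e => by rw [e, orderOf_one] at ho; exact absurd ho (by norm_num)
  have hφ : orderOf (fieldAut (n := 2) σ) = 2 := by
    rw [orderOf_injective _ (fieldAut_injective hinj), ho]
  -- a group of commuting elements, one of them of odd order fixed by `σ`
  have key : ∀ x y : PSLn 2 F, Odd (orderOf x) → x ≠ 1 → fieldAut σ x = x → Commute y x →
      fieldAut σ y = y := by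
    intro x y hxo hx1 hfix hc
    exact (commute_conj_iff hinj _ _).mp (h.commute_of_subgroup hσ (hI x) (hI y) hφ
      (by rwa [orderOf_injective _ hinj]) (fun e => hx1 (hinj (e.trans (map_one _).symm)))
      ((commute_conj_iff hinj _ _).mpr hfix).symm (hc.map MulAut.conj)).symm
  by_cases h2 : ringChar F = 2
  · obtain ⟨c, hc, hc0, hc1⟩ := exists_fixed_ne h2 h4 hinv
    have : CharP F 2 := h2 ▸ ringChar.charP F
    set u : Fˣ := Units.mk0 c hc0 with hu
    have hsq : ∀ a : Fˣ, ∀ κ : F, ((a⁻¹ : Fˣ) : F) = κ * ((a⁻¹ : Fˣ) : F) → κ = 1 := fun a κ e =>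
      mul_right_cancel₀ (a⁻¹).ne_zero (e.symm.trans (one_mul _).symm)
    refine hne (RingEquiv.ext fun x => ?_)
    rcases eq_or_ne x 0 with rfl | hx
    · rw [map_zero]; rfl
    have e := key (tor u) (tor (Units.mk0 x hx)) ?_ ?_ ?_ ((Commute.all _ _).map tor)
    · rw [fieldAut_tor, tor_apply, tor_apply] at e
      obtain ⟨κ, hκ⟩ := proj_entries e
      have e0 := hκ 0 0
      have e1 := hκ 1 1
      simp [coe_torSL, coe_sU] at e0 e1
      show σ x = x
      have hσx : σ x ≠ 0 := (map_ne_zero σ).mpr hx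
      field_simp at e1
      have : σ x ^ 2 = x ^ 2 := by linear_combination (σ x) * e1 - x * e0
      exact frobenius_inj F 2 this
    · refine Odd.of_dvd_nat ?_ (orderOf_map_dvd tor u)
      refine Odd.of_dvd_nat ?_ (orderOf_dvd_natCard u)
      rw [Nat.card_units, Nat.card_eq_fintype_card, Nat.odd_iff]
      have := FiniteField.even_card_iff_char_two.mp h2
      omega
    · intro e
      rw [tor_apply, ← map_one (proj (F := F) (n := 2))] at e
      obtain ⟨κ, hκ⟩ := proj_entries e
      have e0 := hκ 0 0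
      have e1 := hκ 1 1
      simp [coe_torSL, hu] at e0 e1
      have : c ^ 2 = 1 ^ 2 := by
        field_simp at e1
        linear_combination c * e1 - e0
      exact hc1 (frobenius_inj F 2 this)
    · rw [fieldAut_tor, show sU σ u = u from Units.ext hc]
  · refine hne (RingEquiv.ext fun x => ?_)
    have e := key (upper (Multiplicative.ofAdd (1 : F))) (upper (Multiplicative.ofAdd x)) ?_ ?_ ?_
      ((Commute.all (Multiplicative.ofAdd x) (Multiplicative.ofAdd (1 : F))).map upper)
    · rw [fieldAut_upper] at e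
      exact upper_ofAdd_injective e
    · have hd : orderOf (upper (Multiplicative.ofAdd (1 : F))) ∣ Nat.card (Multiplicative F) :=
        (orderOf_map_dvd upper (Multiplicative.ofAdd (1 : F))).trans
          (orderOf_dvd_natCard (Multiplicative.ofAdd (1 : F)))
      have hc : Nat.card (Multiplicative F) = Fintype.card F :=
        (Nat.card_congr Multiplicative.toAdd).trans Nat.card_eq_fintype_card
      rw [hc] at hd
      exact (Nat.odd_iff.mpr (FiniteField.odd_card_of_char_ne_two h2)).of_dvd_nat hd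
    · intro e
      have e2 : upper (Multiplicative.ofAdd (1 : F)) = upper (Multiplicative.ofAdd (0 : F)) :=
        e.trans (map_one upper).symm
      exact one_ne_zero (upper_ofAdd_injective e2)
    · rw [fieldAut_upper, map_one]

/-- The group has no element `diag(δ, 1)` times an involutory field automorphism with `δ` a
nonsquare generator. -/
theorem no_twisted_invol {σ : F ≃+* F} {δ : Fˣ} (hσ : cD δ * fieldAut σ ∈ Γ)
    (hgen : ∀ y : Fˣ, y ∈ Submonoid.powers δ) (hns : ¬ IsSquare δ) (ho : orderOf σ = 2) :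
    False := by
  have h2c : ringChar F ≠ 2 := fun e => hns (isSquare_of_char_two e δ)
  have hinv : ∀ x, σ (σ x) = x := fun x => by
    have e : σ * σ = 1 := by rw [← sq, ← ho, pow_orderOf_eq_one]
    exact RingEquiv.congr_fun e x
  have hne : σ ≠ 1 := fun e => by rw [e, orderOf_one] at ho; exact absurd ho (by norm_num)
  set k : Fˣ := δ * sU σ δ with hk
  have hkfix : sU σ k = k := by
    rw [hk, map_mul, show sU σ (sU σ δ) = δ from Units.ext (hinv _), mul_comm]
  set γ := cD δ * fieldAut σ with hγ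
  have hγ2 : γ ^ 2 = cD k := by
    rw [sq, hγ, mul_assoc, ← mul_assoc (fieldAut σ), fieldAut_mul_cD, mul_assoc, ← map_mul,
      ← sq σ, show σ ^ 2 = 1 by rw [← ho, pow_orderOf_eq_one], map_one, mul_one, ← map_mul]
  -- `k` has even order
  have heven : Even (orderOf k) := by
    by_contra hodd
    obtain ⟨j, hj⟩ := Nat.not_even_iff_odd.mp hodd
    set k₀ := k ^ (j + 1) with hk₀
    have hk₀2 : k₀ * k₀ = k := by
      rw [hk₀, ← pow_add, show j + 1 + (j + 1) = orderOf k + 1 by omega, pow_succ,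
        pow_orderOf_eq_one, one_mul]
    have hfix₀ : sU σ k₀ = k₀ := by rw [hk₀, map_pow, hkfix]
    obtain ⟨b, hb⟩ := exists_norm_eq hne hinv hfix₀
    -- `δ / b` has norm one
    have hε : sU σ (δ * b⁻¹ * b⁻¹) * (δ * b⁻¹ * b⁻¹) * 1 = 1 := by
      rw [mul_one, map_mul, map_mul, map_inv, mul_comm]
      calc δ * b⁻¹ * b⁻¹ * (sU σ δ * (sU σ b)⁻¹ * (sU σ b)⁻¹)
          = (δ * sU σ δ) * ((sU σ b * b) * (sU σ b * b))⁻¹ := by
            simp only [mul_inv_rev]; ac_rfl
        _ = 1 := by rw [hb, hk₀2, ← hk, mul_inv_cancel]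
    set ε := δ * b⁻¹ * b⁻¹ with hεdef
    rw [mul_one] at hε
    obtain ⟨x, hx⟩ : ∃ x : F, x + (ε : F) * σ x ≠ 0 := by
      by_contra hc
      push Not at hc
      have h1 := hc 1
      rw [map_one, mul_one, add_eq_zero_iff_eq_neg'] at h1
      exact hne (RingEquiv.ext fun x => by
        have h2 := hc x
        rw [h1, neg_one_mul, add_neg_eq_zero] at h2
        exact h2.symm)
    set a : Fˣ := Units.mk0 _ hx with ha
    have hea : ε * sU σ a = a := by
      apply Units.ext
      have he' : σ (ε : F) * (ε : F) = 1 := congrArg Units.val hε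
      simp only [Units.val_mul, ha, Units.val_mk0, coe_sU, map_add, map_mul, hinv]
      linear_combination x * he'
    refine hns ?_
    have : δ = (b * a) * (b * a) * (sU σ a * a)⁻¹ := by
      have h3 : δ = ε * (b * b) := by rw [hεdef]; simp [mul_assoc]
      rw [eq_mul_inv_iff_mul_eq, h3]
      calc ε * (b * b) * (sU σ a * a) = ε * sU σ a * (b * b * a) := by ac_rfl
        _ = a * (b * b * a) := by rw [hea]
        _ = b * a * (b * a) := by ac_rfl
    rw [this]
    exact (IsSquare.mul_self _).mul (isSquare_sU_mul_self σ a).inv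
  -- the involution `diag(-1, 1)`
  obtain ⟨i, hi⟩ := heven
  have hipos : 0 < i := by have := orderOf_pos k; omega
  have hm1 : k ^ i = -1 := by
    have hsq : ((k ^ i : Fˣ) : F) * ((k ^ i : Fˣ) : F) = 1 := by
      rw [← Units.val_mul, ← pow_add, ← hi, pow_orderOf_eq_one, Units.val_one]
    rcases mul_self_eq_one_iff.mp hsq with e | e
    · exact absurd (Nat.le_of_dvd hipos (orderOf_dvd_of_pow_eq_one (Units.ext e))) (by omega)
    · exact Units.ext (by rw [e, Units.val_neg, Units.val_one])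
  have hm1ne : (-1 : Fˣ) ≠ 1 := fun e => h2c (by
    have e' : (-1 : F) = 1 := by simpa using congrArg Units.val e
    by_contra h2
    exact Ring.neg_one_ne_one_of_char_ne_two h2 e')
  have ht2 : orderOf (cD (-1 : Fˣ) : MulAut (PSLn 2 F)) = 2 := by
    refine Involution.orderOf_eq_two ?_ fun e => hm1ne (cD_eq_one e)
    rw [← map_mul, neg_mul_neg, one_mul, map_one]
  have htγ : cD (-1 : Fˣ) ∈ zpowers γ := by
    rw [← hm1, map_pow, ← hγ2, ← pow_mul]
    exact pow_mem (mem_zpowers γ) _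
  have htΓ : cD (-1 : Fˣ) ∈ Γ := zpowers_le.mpr hσ htγ
  have hw : Commute (MulAut.conj (wP : PSLn 2 F)) (cD (-1 : Fˣ)) := by
    show _ = _
    rw [conj_wP_mul_cD, show ((-1 : Fˣ))⁻¹ = -1 by simp]
  have hmem := h.conj_mem_of_subgroup htΓ hσ (hI wP) ht2 htγ hw
  have hwγ : MulAut.conj wP * γ * (MulAut.conj wP)⁻¹ = cD δ⁻¹ * fieldAut σ := by
    rw [hγ, ← mul_assoc, conj_wP_mul_cD, mul_inv_eq_iff_eq_mul, mul_assoc, mul_assoc,
      ((commute_conj_iff hinj (fieldAut σ) wP).mpr (fieldAut_wP σ)).eq]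
  rw [hwγ, ← mem_powers_iff_mem_zpowers, Submonoid.mem_powers_iff] at hmem
  obtain ⟨n, hn⟩ := hmem
  obtain ⟨m, rfl | rfl⟩ : ∃ m, n = 2 * m ∨ n = 2 * m + 1 := ⟨n / 2, by omega⟩
  · rw [pow_mul, hγ2, ← map_pow, ← inv_mul_eq_iff_eq_mul, ← map_inv, ← map_mul] at hn
    exact hne (conj_eq_fieldAut le_rfl hn).1
  · rw [pow_succ, pow_mul, hγ2, ← map_pow, hγ, ← mul_assoc, ← map_mul] at hn
    have e := cD_injective (mul_right_cancel hn)
    have hd2 : sU σ (δ * δ) = δ * δ := by
      have e2 : δ * δ = (k ^ m)⁻¹ := by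
        rw [eq_inv_iff_mul_eq_one, mul_assoc, mul_comm δ (k ^ m), e, mul_inv_cancel]
      rw [e2, map_inv, map_pow, hkfix]
    have hpm : σ (δ : F) = δ ∨ σ (δ : F) = -δ := by
      refine mul_self_eq_mul_self_iff.mp ?_
      have := congrArg Units.val hd2
      simpa [coe_sU] using this
    have hall : ∀ x : F, σ x = x ∨ σ x = -x := by
      intro x
      rcases eq_or_ne x 0 with rfl | hx
      · simp
      obtain ⟨l, hl⟩ := Submonoid.mem_powers_iff _ _ |>.mp (hgen (Units.mk0 x hx))
      have hl' : (δ : F) ^ l = x := by simpa using congrArg Units.val hl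
      rw [← hl', map_pow]
      rcases hpm with e | e <;> rw [e]
      · exact Or.inl rfl
      · exact (Nat.even_or_odd l).elim (fun h => Or.inl (h.neg_pow _)) (fun h => Or.inr (h.neg_pow _))
    refine hne (RingEquiv.ext fun x => ?_)
    show σ x = x
    rcases hall x with hx | hx
    · exact hx
    have h2F : (2 : F) ≠ 0 := Ring.two_ne_zero h2c
    rcases hall (x + 1) with e | e <;> rw [map_add, map_one, hx] at e
    · have hx0 : x = 0 :=
        (mul_eq_zero.mp (by linear_combination -e : (2 : F) * x = 0)).resolve_left h2F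
      rw [hx0, map_zero]
    · exact absurd (by linear_combination e : (2 : F) = 0) h2F

/-- An element outside `PGL₂(q)` is impossible. -/
theorem eq_one_of_mem (h4 : 4 < Fintype.card F) {δ : Fˣ} {σ : F ≃+* F}
    (hγ : cD δ * fieldAut σ ∈ Γ) : σ = 1 := by
  by_contra hne
  have hsq : ∀ c : Fˣ, IsSquare c → cD c ∈ Γ := by
    rintro _ ⟨c, rfl⟩
    rw [cD_sq]; exact hI _
  have hpow := exists_pow_eq σ δ
  have : Finite (F ≃+* F) := Finite.of_injective (fun σ => (σ : F → F)) DFunLike.coe_injective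
  obtain ⟨r, hr, hd⟩ := Nat.exists_prime_and_dvd (fun e => hne (orderOf_eq_one_iff.mp e))
  obtain ⟨N, hN, -⟩ := hpow (orderOf σ / r)
  set τ := σ ^ (orderOf σ / r) with hτdef
  have hτ : orderOf τ = r := orderOf_pow_orderOf_div (orderOf_pos σ).ne' hd
  have hτ1 : τ ≠ 1 := fun e => hr.ne_one (by rw [← hτ, e, orderOf_one])
  have hγ' : cD N * fieldAut τ ∈ Γ := hN ▸ pow_mem hγ _
  clear hpow hN hd hne hγ
  have hpow := exists_pow_eq τ N
  have hphi : cD N ∈ Γ → fieldAut τ ∈ Γ := fun hc => by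
    have := mul_mem (inv_mem hc) hγ'
    rwa [inv_mul_cancel_left] at this
  rcases hr.eq_two_or_odd' with rfl | hrodd
  · by_cases hNsq : IsSquare N
    · exact no_fieldAut_invol hinj hI h h4 (hphi (hsq N hNsq)) hτ
    obtain ⟨g, hg⟩ := IsCyclic.exists_monoid_generator (α := Fˣ)
    have hgns : ¬ IsSquare g := fun hs => hNsq (by
      obtain ⟨l, hl⟩ := Submonoid.mem_powers_iff _ _ |>.mp (hg N)
      rw [← hl]; exact hs.pow l)
    refine no_twisted_invol hinj hI h ?_ hg hgns hτ
    have := mul_mem (hsq _ (isSquare_mul_of_not hgns (fun hi => hNsq (inv_inv N ▸ hi.inv)))) hγ'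
    rwa [← mul_assoc, ← map_mul, inv_mul_cancel_right] at this
  · refine no_fieldAut_odd hinj hI h (hphi ?_) (hτ ▸ hrodd) hτ1
    obtain ⟨M, hM, hs⟩ := hpow r
    rw [show τ ^ r = 1 by rw [← hτ, pow_orderOf_eq_one], map_one, mul_one] at hM
    have hMΓ : cD M ∈ Γ := hM ▸ pow_mem hγ' r
    obtain ⟨m, hm⟩ := hrodd
    have := mul_mem (mul_mem (inv_mem hMΓ) (hsq _ hs)) (inv_mem (hsq _ (IsSquare.mul_self (N ^ m))))
    rwa [← map_inv, ← map_inv, ← map_mul, ← map_mul, inv_mul_cancel_left, hm, pow_succ, two_mul,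
      pow_add, mul_comm (N ^ m * N ^ m), mul_inv_cancel_right] at this

/-- Classification of the overgroups. -/
theorem eq_range_or (h4 : 4 < Fintype.card F) :
    Γ = (MulAut.conj : PSLn 2 F →* _).range ∨ Γ = (conj : GL (Fin 2) F →* _).range := by
  have hform : ∀ β ∈ Γ, ∃ x δ, β = MulAut.conj x * cD δ ∧ cD δ ∈ Γ := by
    intro β hβ
    obtain ⟨x, δ, σ, rfl⟩ := exists_normal_form β
    have hm : cD δ * fieldAut σ ∈ Γ := by
      have := mul_mem (inv_mem (hI x)) hβ
      rwa [mul_assoc, inv_mul_cancel_left] at this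
    obtain rfl := eq_one_of_mem hinj hI h h4 hm
    rw [map_one, mul_one] at hm ⊢
    exact ⟨x, δ, rfl, hm⟩
  by_cases hall : ∀ δ : Fˣ, cD δ ∈ Γ → IsSquare δ
  · refine Or.inl (le_antisymm (fun β hβ => ?_) ?_)
    · obtain ⟨x, δ, rfl, hδ⟩ := hform β hβ
      obtain ⟨c, rfl⟩ := hall δ hδ
      exact ⟨x * tor c, by rw [map_mul, cD_sq]⟩
    · rintro _ ⟨x, rfl⟩; exact hI x
  · push Not at hall
    obtain ⟨d, hd, hdns⟩ := hall
    refine Or.inr (le_antisymm (fun β hβ => ?_) ?_)
    · obtain ⟨x, δ, rfl, -⟩ := hform β hβ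
      obtain ⟨s, rfl⟩ := proj_surjective x
      exact ⟨Matrix.SpecialLinearGroup.toGL s * torus ![δ, 1],
        by rw [map_mul, conj_toGL, cD_apply]⟩
    · rintro _ ⟨g, rfl⟩
      obtain ⟨x, δ, hg⟩ := exists_conj_eq g
      rw [hg]
      refine mul_mem (hI x) ?_
      have hsq : ∀ c : Fˣ, IsSquare c → cD c ∈ Γ := by
        rintro _ ⟨c, rfl⟩
        rw [cD_sq]; exact hI _
      by_cases hδ : IsSquare δ
      · exact hsq δ hδ
      · have := mul_mem (hsq _ (isSquare_mul_of_not hδ hdns)) (inv_mem hd)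
        rwa [map_mul, mul_inv_cancel_right] at this

end Simple

end Cfsg.Agent.Lib.CyclicNorm64
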