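import Cfsg.Agent.Lib.CyclicNorm64.Simple
import Cfsg.Agent.Lib.CyclicNorm64.PSLOuter
import Cfsg.Agent.Lib.MinimalNormal
import Cfsg.Agent.S0205
import Cfsg.Agent.S0252
import Cfsg.Agent.S0253

/-!
# Groups without solvable normal subgroups with the normaliser property
-/

set_option autoImplicit false
set_option linter.unusedSectionVars false

namespace Cfsg.Agent.Lib.CyclicNorm64

open Subgroup

universe u

theorem solvable_simple_comm {S : Type*} [Group S] [IsSimpleGroup S] [Group.IsSolvable S] :
    IsMulCommutative S :=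
  ⟨⟨IsSimpleGroup.comm_iff_isSolvable.mpr inferInstance⟩⟩

theorem conj_injective_of_simple {P : Type*} [Group P] [IsSimpleGroup P]
    (hne : ¬ IsMulCommutative P) :
    Function.Injective (MulAut.conj : P →* MulAut P) := by
  refine (injective_iff_map_eq_one _).mpr fun x hx => ?_
  rw [← mem_bot, ← CharSimple.center_eq_bot hne, mem_center_iff]
  intro y
  have := congrArg (fun β : MulAut P => β y) hx
  simp only [MulAut.conj_apply, MulAut.one_apply] at this
  exact (mul_inv_eq_iff_eq_mul.mp this).symm

/-- A simple nonabelian group with the property has even order, and any power of it with more than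
one factor lacks it. -/
theorem not_normProp_pi {S : Type*} [Group S] [Finite S] [IsSimpleGroup S]
    (hne : ¬ IsMulCommutative S) {n : ℕ} (hn : 2 ≤ n) : ¬ NormProp (Fin n → S) := by
  intro h
  have : Fact (Nat.Prime 2) := ⟨Nat.prime_two⟩
  have hev : Even (Nat.card S) := Nat.not_odd_iff_even.mp fun ho => by
    have := S0205.result ho
    exact hne solvable_simple_comm
  obtain ⟨s, hs⟩ := exists_prime_orderOf_dvd_card' (G := S) 2 (even_iff_two_dvd.mp hev)
  obtain ⟨p, hp, hpd, hp2⟩ : ∃ p, p.Prime ∧ p ∣ Nat.card S ∧ p ≠ 2 := by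
    by_contra hc
    push Not at hc
    have h2 : IsPGroup 2 S := IsPGroup.of_card (n := (Nat.card S).primeFactorsList.length)
      (Nat.eq_prime_pow_of_unique_prime_dvd Nat.card_pos.ne' fun {d} hd hdd => hc d hd hdd)
    have := h2.isNilpotent
    exact hne solvable_simple_comm
  have := Fact.mk hp
  obtain ⟨y, hy⟩ := exists_prime_orderOf_dvd_card' (G := S) p hpd
  have hyodd : Odd (orderOf y) := hy ▸ hp.odd_of_ne_two hp2
  let i : Fin n := ⟨0, by omega⟩
  let j : Fin n := ⟨1, by omega⟩
  have hij : i ≠ j := by simp [i, j, Fin.ext_iff]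
  let ei := MonoidHom.mulSingle (fun _ : Fin n => S) i
  let ej := MonoidHom.mulSingle (fun _ : Fin n => S) j
  have hinjj : Function.Injective ej := Pi.mulSingle_injective (M := fun _ : Fin n => S) j
  have hcom : ∀ a b : S, Commute (ej a) (ei b) := fun a b =>
    Pi.mulSingle_commute (f := fun _ : Fin n => S) hij.symm a b
  have hnorm : (zpowers y).Normal := by
    refine ⟨fun z hz g => ?_⟩
    have hg : g * y * g⁻¹ ∈ zpowers y := by
      obtain ⟨k, hk⟩ := h.conj_mem_odd (t := ei s) (y := ej y) (g := ej g)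
        (by rw [orderOf_injective _ (Pi.mulSingle_injective (M := fun _ : Fin n => S) i)]; exact hs)
        (by rwa [orderOf_injective _ hinjj]) (hcom y s) (hcom g s)
      simp only at hk
      exact ⟨k, hinjj (by rw [map_zpow, hk, map_mul, map_mul, map_inv])⟩
    obtain ⟨k, rfl⟩ := hz
    simp only
    rw [← conj_zpow]
    exact zpow_mem hg k
  have hy1 : y ≠ 1 := fun e => hp.ne_one (by rw [← hy, e, orderOf_one])
  have htop := hnorm.eq_bot_or_eq_top.resolve_left (by rwa [zpowers_eq_bot])
  refine hne ⟨⟨fun a b => ?_⟩⟩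
  obtain ⟨k, rfl⟩ : a ∈ zpowers y := htop ▸ mem_top a
  obtain ⟨l, rfl⟩ : b ∈ zpowers y := htop ▸ mem_top b
  exact ((Commute.refl y).zpow_zpow k l).eq

variable {G : Type u} [Group G] [Finite G]

/-- The minimal normal subgroup is simple with trivial centraliser. -/
theorem exists_simple_normal [Nontrivial G]
    (hss : ∀ N : Subgroup G, N.Normal → Group.IsSolvable ↥N → N = ⊥) (h : NormProp G) :
    ∃ L : Subgroup G, L.Normal ∧ IsSimpleGroup L ∧ ¬ IsMulCommutative L ∧
      Even (Nat.card L) ∧ centralizer (L : Set G) = ⊥ := by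
  have : Fact (Nat.Prime 2) := ⟨Nat.prime_two⟩
  obtain ⟨L, hL, hL1, -, hmin⟩ :=
    MinimalNormal.exists_minimal_normal_le (G := G) (M := ⊤) inferInstance top_ne_bot
  have hnsol : ¬ Group.IsSolvable L := fun hs => hL1 (hss L hL hs)
  have : Nontrivial L := (Subgroup.nontrivial_iff_ne_bot L).mpr hL1
  have hchar : ∀ K : Subgroup L, K.Characteristic → K = ⊥ ∨ K = ⊤ := by
    intro K hK
    rcases hmin _ (ConjAct.normal_of_characteristic_of_normal (K := K)) (map_subtype_le K) with
      e | e
    · exact Or.inl ((map_eq_bot_iff_of_injective K L.subtype_injective).mp e)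
    · refine Or.inr (map_injective L.subtype_injective ?_)
      rw [e, ← MonoidHom.range_eq_map, range_subtype]
  obtain ⟨S, _, _, n, hn, ⟨e⟩⟩ := CharSimple.exists_mulEquiv_pi hchar
  have : Finite (Fin n → S) := Finite.of_equiv _ e.toEquiv
  have : Finite S := Finite.of_injective _ (Pi.mulSingle_injective (M := fun _ : Fin n => S) ⟨0, hn⟩)
  have hneS : ¬ IsMulCommutative S := fun hc => hnsol (Group.isSolvable_of_comm fun a b =>
    e.injective (by
      rw [map_mul, map_mul]
      exact funext fun i => mul_comm' (e a i) (e b i)))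
  have hn1 : n = 1 := by
    by_contra hn1
    exact not_normProp_pi hneS (n := n) (by omega) ((h.subgroup L).of_mulEquiv e.symm)
  subst hn1
  let e' : L ≃* S := e.trans (MulEquiv.funUnique (Fin 1) S)
  have hsimp : IsSimpleGroup L := e'.isSimpleGroup
  have hneL : ¬ IsMulCommutative L := fun hc => hnsol (Group.isSolvable_of_comm mul_comm')
  have heven : Even (Nat.card L) :=
    Nat.not_odd_iff_even.mp fun ho => hnsol (S0205.result ho)
  refine ⟨L, hL, hsimp, hneL, heven, ?_⟩
  have hC : (centralizer (L : Set G)).Normal := normal_centralizer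
  refine hss _ hC ?_
  suffices h2 : IsPGroup 2 (centralizer (L : Set G)) by
    have := h2.isNilpotent
    infer_instance
  by_contra hnp
  obtain ⟨p, hp, hpd, hp2⟩ : ∃ p, p.Prime ∧ p ∣ Nat.card (centralizer (L : Set G)) ∧ p ≠ 2 := by
    by_contra hc
    push Not at hc
    exact hnp (IsPGroup.of_card
      (n := (Nat.card (centralizer (L : Set G))).primeFactorsList.length)
      (Nat.eq_prime_pow_of_unique_prime_dvd Nat.card_pos.ne' fun {d} hd hdd => hc d hd hdd))
  have := Fact.mk hp
  obtain ⟨y, hy⟩ := exists_prime_orderOf_dvd_card' (G := centralizer (L : Set G)) p hpd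
  obtain ⟨t, ht⟩ := exists_prime_orderOf_dvd_card' (G := L) 2 (even_iff_two_dvd.mp heven)
  have hcy : ∀ l : L, Commute (l : G) y := fun l => mem_centralizer_iff.mp y.2 _ l.2
  have hyo : Odd (orderOf (y : G)) := by rw [Subgroup.orderOf_coe, hy]; exact hp.odd_of_ne_two hp2
  have hy1 : (y : G) ≠ 1 := fun e1 => hp.ne_one (by
    rw [← hy, ← Subgroup.orderOf_coe, e1, orderOf_one])
  have ht1 : t ∈ center L := mem_center_iff.mpr fun l => by
    have hmem : (l : G) ∈ normalizer (zpowers (y : G) : Set G) := by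
      refine centralizer_le_normalizer _ (mem_centralizer_iff.mpr ?_)
      rintro _ ⟨k, rfl⟩
      exact ((hcy l).zpow_right k).eq.symm
    rw [h.normalizer_odd (t := (t : G)) (by rw [Subgroup.orderOf_coe, ht]) hyo hy1 (hcy t).symm]
      at hmem
    exact Subtype.ext (mem_cent.mp hmem).eq
  rw [CharSimple.center_eq_bot hneL, mem_bot] at ht1
  rw [ht1, orderOf_one] at ht
  exact absurd ht (by norm_num)

/-- A normal subgroup isomorphic to `PSL₂(q)`, `q ≥ 5`, with trivial centraliser determines the
group. -/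
theorem equiv_psl_or_pgl (h : NormProp G) (L : Subgroup G) [L.Normal]
    (hC : centralizer (L : Set G) = ⊥) {F : Type} [Field F] [Fintype F] (h4 : 4 < Fintype.card F)
    (e : L ≃* Matrix.ProjectiveSpecialLinearGroup (Fin 2) F) :
    Nonempty (G ≃* Matrix.ProjectiveSpecialLinearGroup (Fin 2) F) ∨
      Nonempty (G ≃* Matrix.ProjGenLinGroup (Fin 2) F) := by
  let f : G →* MulAut (Matrix.ProjectiveSpecialLinearGroup (Fin 2) F) :=
    (MulAut.congr e).toMonoidHom.comp MulAut.conjNormal
  have hf : ∀ g x, f g x = e (MulAut.conjNormal g (e.symm x)) := fun g x => rfl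
  have hfinj : Function.Injective f := by
    refine (injective_iff_map_eq_one _).mpr fun g hg => ?_
    rw [← mem_bot, ← hC, mem_centralizer_iff]
    intro l hl
    have h1 := congrArg (fun β : MulAut _ => β (e ⟨l, hl⟩)) hg
    simp only [hf, e.symm_apply_apply, MulAut.one_apply, EmbeddingLike.apply_eq_iff_eq] at h1
    have h2 := congrArg Subtype.val h1
    rw [MulAut.conjNormal_apply] at h2
    exact (mul_inv_eq_iff_eq_mul.mp h2).symm
  have hfl : ∀ x, f ((e.symm x : L) : G) = MulAut.conj x := fun x => MulEquiv.ext fun y => by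
    rw [hf, MulAut.conjNormal_val, MulAut.conj_apply, map_mul, map_mul, map_inv,
      e.apply_symm_apply, e.apply_symm_apply, MulAut.conj_apply]
  have hinj : Function.Injective (MulAut.conj :
      Matrix.ProjectiveSpecialLinearGroup (Fin 2) F →* MulAut _) := fun x y hxy => by
    rw [← hfl x, ← hfl y] at hxy
    exact e.symm.injective (Subtype.ext (hfinj hxy))
  let eG := MonoidHom.ofInjective hfinj
  rcases eq_range_or hinj (Γ := f.range) (fun x => ⟨_, hfl x⟩) (h.of_mulEquiv eG.symm) h4 with
    hr | hr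
  · exact Or.inl ⟨eG.trans ((MulEquiv.subgroupCongr hr).trans (MonoidHom.ofInjective hinj).symm)⟩
  · exact Or.inr ⟨eG.trans ((MulEquiv.subgroupCongr hr).trans PSLAut.pglEquivRange.symm)⟩

/-- The classification. -/
theorem classification [Nontrivial G]
    (hss : ∀ N : Subgroup G, N.Normal → Group.IsSolvable ↥N → N = ⊥) (h : NormProp G) :
    ∃ (F : Type) (_ : Field F) (_ : Fintype F), 3 < Fintype.card F ∧
      (Nonempty (G ≃* Matrix.ProjectiveSpecialLinearGroup (Fin 2) F) ∨
        Nonempty (G ≃* Matrix.ProjGenLinGroup (Fin 2) F)) := by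
  obtain ⟨L, hL, hsimp, hneL, heven, hC⟩ := exists_simple_normal hss h
  obtain ⟨F, iF, iFt, h3, ⟨e⟩⟩ := (h.subgroup L).exists_psl hneL heven
  by_cases h4 : Fintype.card F = 4
  · have : Fact (Nat.Prime 5) := ⟨by norm_num⟩
    obtain ⟨e4⟩ := S0252.result h4
    obtain ⟨e5⟩ := S0253.result (F := ZMod 5) (ZMod.card 5)
    exact ⟨ZMod 5, inferInstance, inferInstance, by rw [ZMod.card]; norm_num,
      equiv_psl_or_pgl h L hC (by rw [ZMod.card]; norm_num) (e.trans (e4.trans e5.symm))⟩
  · exact ⟨F, iF, iFt, h3, equiv_psl_or_pgl h L hC (by omega) e⟩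

end Cfsg.Agent.Lib.CyclicNorm64
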