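import Cfsg.Agent.Lib.CyclicNorm64.TwoGroup
import Cfsg.Agent.Lib.Involution.ThompsonTransfer
import Cfsg.Agent.Lib.BSW.Main
import Cfsg.Agent.Lib.BSW.Recognize
import Cfsg.Agent.Lib.CharCount.InvertingInvolution
import Cfsg.Agent.S0215
import Cfsg.Agent.S2202
import Cfsg.Agent.S0251

/-!
# Simple groups in which cyclic subgroups of even order share normalisers with their subgroups
-/

set_option autoImplicit false

namespace Cfsg.Agent.Lib.CyclicNorm64

open Subgroup

universe u

variable {G : Type u} [Group G] [Finite G]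

theorem isPGroup_zpowers_invol {t : G} (ht : orderOf t = 2) : IsPGroup 2 (zpowers t) :=
  IsPGroup.of_card (n := 1) (by rw [Nat.card_zpowers, ht, pow_one])

/-- A 2-subgroup of a subgroup containing a Sylow subgroup is conjugate into it there. -/
theorem exists_conj_le_sylow (P : Sylow 2 G) {K R : Subgroup G} (hPK : (P : Subgroup G) ≤ K)
    (hR : R ≤ K) (hR2 : IsPGroup 2 R) :
    ∃ c ∈ K, ∀ r ∈ R, c * r * c⁻¹ ∈ (P : Subgroup G) := by
  have : Fact (Nat.Prime 2) := ⟨Nat.prime_two⟩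
  obtain ⟨Q, hQ⟩ := (hR2.of_equiv (subgroupOfEquivOfLe hR).symm).exists_le_sylow
  obtain ⟨c, hc⟩ := MulAction.exists_smul_eq K Q (P.subtype hPK)
  refine ⟨c, c.2, fun r hr => ?_⟩
  have h1 : MulAut.conj c • (⟨r, hR hr⟩ : K) ∈ ((c • Q : Sylow 2 K) : Subgroup K) := by
    rw [Sylow.smul_def]
    exact ⟨⟨r, hR hr⟩, hQ (mem_subgroupOf.mpr hr), rfl⟩
  rw [hc] at h1
  exact h1

/-- An involution centralised by all of `C(t)` lies in every Sylow subgroup of it. -/
theorem mem_sylow_of_central (P : Sylow 2 G) {z : G} (hz : orderOf z = 2)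
    (hc : ∀ a ∈ (P : Subgroup G), Commute a z) : z ∈ (P : Subgroup G) := by
  have h1 : (P : Subgroup G) ≤ normalizer (zpowers z : Set G) := by
    rw [normalizer_zpowers_invol hz]
    exact fun a ha => mem_cent.mpr (hc a ha)
  have h2 := P.2.to_sup_of_normal_right' (isPGroup_zpowers_invol hz) h1
  exact (P.3 h2 le_sup_left) ▸ mem_sup_right (mem_zpowers z)

theorem eq_one_of_odd_of_two {S : Subgroup G} (hS : IsPGroup 2 S) {x : G} (hx : x ∈ S)
    (hodd : Odd (orderOf x)) : x = 1 := by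
  obtain ⟨k, hk⟩ := (IsPGroup.iff_orderOf.mp hS) ⟨x, hx⟩
  rw [Subgroup.orderOf_mk] at hk
  rw [← orderOf_eq_one_iff, hk]
  rcases Nat.eq_zero_or_pos k with rfl | hk0
  · rfl
  · rw [hk, Nat.odd_pow_iff (by omega)] at hodd
    exact absurd hodd (by decide)

theorem pow_mul_eq_pow_of_commute {a m : G} (hc : Commute a m) :
    (a * m) ^ orderOf a = m ^ orderOf a := by
  rw [hc.mul_pow, pow_orderOf_eq_one, one_mul]

/-- `C(t)` is the product of its odd part and a Sylow subgroup. -/
theorem NormProp.cent_decomp (h : NormProp G) {t : G} (ht : orderOf t = 2) (P : Sylow 2 G)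
    (hP : ∀ a ∈ (P : Subgroup G), Commute a t) {x : G} (hx : Commute x t) :
    ∃ a ∈ h.oddPart ht, ∃ p ∈ (P : Subgroup G), x = a * p := by
  have : Fact (Nat.Prime 2) := ⟨Nat.prime_two⟩
  have hPC : (P : Subgroup G) ≤ cent t := fun a ha => mem_cent.mpr (hP a ha)
  set A := (h.oddPart ht).subgroupOf (cent t) with hA
  have : A.Normal := ⟨fun a ha c => mem_subgroupOf.mpr
    (h.oddPart_conj ht (mem_subgroupOf.mp ha) (mem_cent.mp c.2))⟩
  set B := A ⊔ (P : Subgroup G).subgroupOf (cent t) with hB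
  have hQ : IsPGroup 2 (cent t ⧸ A) := by
    intro q
    obtain ⟨c, rfl⟩ := QuotientGroup.mk_surjective q
    refine ⟨(orderOf (c : G)).factorization 2, ?_⟩
    rw [← QuotientGroup.mk_pow, QuotientGroup.eq_one_iff, hA, mem_subgroupOf, Subgroup.coe_pow,
      h.mem_oddPart ht]
    refine ⟨(mem_cent.mp c.2).pow_left _, ?_⟩
    rw [orderOf_pow_of_dvd (pow_ne_zero _ two_ne_zero) (Nat.ordProj_dvd _ 2)]
    exact Nat.odd_iff.mpr (Nat.two_dvd_ne_zero.mp
      (Nat.not_dvd_ordCompl Nat.prime_two (orderOf_pos (c : G)).ne'))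
  obtain ⟨k, hk⟩ := IsPGroup.iff_card.mp hQ
  have h1 : B.index ∣ 2 ^ k := by
    rw [← hk, ← Subgroup.index]
    exact index_dvd_of_le le_sup_left
  have h2 : ¬ 2 ∣ B.index := fun h2 => P.not_dvd_index ((h2.trans
    (index_dvd_of_le (le_sup_right (a := A)))).trans ((P : Subgroup G).relIndex_dvd_index_of_le hPC))
  have hB1 : B = ⊤ := index_eq_one.mp (Nat.eq_one_of_dvd_coprimes
    (((Nat.prime_two.coprime_iff_not_dvd).mpr h2).pow_left k).symm dvd_rfl h1)
  have hxB : (⟨x, mem_cent.mpr hx⟩ : cent t) ∈ B := hB1 ▸ mem_top _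
  rw [hB, ← SetLike.mem_coe, normal_mul] at hxB
  obtain ⟨a, ha, p, hp, hap⟩ := Set.mem_mul.mp hxB
  exact ⟨a, mem_subgroupOf.mp ha, p, mem_subgroupOf.mp hp, (congrArg Subtype.val hap).symm⟩

/-- Two Sylow subgroups with a common central involution have the same central elements in their
intersection. -/
theorem NormProp.central_of_common (h : NormProp G) (P : Sylow 2 G) {k w i : G}
    (hw : orderOf w = 2) (hPw : ∀ a ∈ (P : Subgroup G), Commute a w)
    (hkw : ∀ a ∈ (P : Subgroup G), Commute (k * a * k⁻¹) w) (hi : i ∈ (P : Subgroup G))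
    (hki : ∀ a ∈ (P : Subgroup G), Commute (k * a * k⁻¹) i) :
    ∀ a ∈ (P : Subgroup G), Commute a i := by
  have hPC : (P : Subgroup G) ≤ cent w := fun a ha => mem_cent.mpr (hPw a ha)
  obtain ⟨c, hc, hcP⟩ := exists_conj_le_sylow P hPC
    (R := (P : Subgroup G).map (MulAut.conj k).toMonoidHom)
    (by rintro _ ⟨a, ha, rfl⟩; exact mem_cent.mpr (hkw a ha)) (P.2.map _)
  set n := c * k with hn
  have hnP : ∀ a ∈ (P : Subgroup G), n * a * n⁻¹ ∈ (P : Subgroup G) := fun a ha => by
    have := hcP _ ⟨a, ha, rfl⟩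
    simp only [MulEquiv.coe_toMonoidHom, MulAut.conj_apply] at this
    rwa [hn, mul_inv_rev, show c * k * a * (k⁻¹ * c⁻¹) = c * (k * a * k⁻¹) * c⁻¹ by group]
  have hsurj : ∀ b ∈ (P : Subgroup G), ∃ a ∈ (P : Subgroup G), n * a * n⁻¹ = b := by
    intro b hb
    have hinj : Function.Injective
        (fun a : (P : Subgroup G) => (⟨n * a * n⁻¹, hnP a a.2⟩ : (P : Subgroup G))) :=
      fun a b hab => Subtype.ext (by simpa using congrArg Subtype.val hab)
    obtain ⟨a, ha⟩ := Finite.surjective_of_injective hinj ⟨b, hb⟩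
    exact ⟨a, a.2, congrArg Subtype.val ha⟩
  -- `c i c⁻¹` is central in `P`
  have hci : ∀ b ∈ (P : Subgroup G), Commute b (c * i * c⁻¹) := by
    intro b hb
    obtain ⟨a, ha, rfl⟩ := hsurj b hb
    show n * a * n⁻¹ * (c * i * c⁻¹) = c * i * c⁻¹ * (n * a * n⁻¹)
    calc n * a * n⁻¹ * (c * i * c⁻¹) = c * (k * a * k⁻¹ * i) * c⁻¹ := by rw [hn]; group
      _ = c * (i * (k * a * k⁻¹)) * c⁻¹ := by rw [(hki a ha).eq]
      _ = c * i * c⁻¹ * (n * a * n⁻¹) := by rw [hn]; group
  obtain ⟨a, ha, p, hp, hcap⟩ := h.cent_decomp hw P hPw (mem_cent.mp hc).inv_left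
  -- `c = p⁻¹ * a⁻¹`
  have hc' : c = p⁻¹ * a⁻¹ := by rw [← mul_inv_rev, ← hcap, inv_inv]
  have hai : a⁻¹ * i * a = p * (c * i * c⁻¹) * p⁻¹ := by rw [hc']; group
  rw [conj_of_commute (hci p hp)] at hai
  have hiw : Commute i w := hPw i hi
  have hX : a⁻¹ * i * a * i⁻¹ = 1 := by
    refine eq_one_of_odd_of_two P.2 (x := a⁻¹ * i * a * i⁻¹) ?_ ?_
    · rw [hai]
      refine mul_mem ?_ (inv_mem hi)
      have hz : ∀ b ∈ (P : Subgroup G), Commute b (a⁻¹ * i * a) := hai ▸ hci
      rcases eq_or_ne (c * i * c⁻¹) 1 with h1 | h1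
      · rw [h1]; exact one_mem _
      · -- a central 2-element lies in `P`
        have hq : IsPGroup 2 (zpowers (c * i * c⁻¹)) := by
          obtain ⟨e, he⟩ := (IsPGroup.iff_orderOf.mp P.2) ⟨i, hi⟩
          rw [Subgroup.orderOf_mk] at he
          exact IsPGroup.of_card (n := e) (by rw [Nat.card_zpowers, Involution.orderOf_conj_eq, he])
        have h2 := P.2.to_sup_of_normal_right' hq (fun b hb => by
          refine centralizer_le_normalizer _ ?_
          rw [mem_centralizer_iff]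
          rintro _ ⟨e, rfl⟩
          exact ((hci b hb).zpow_right e).eq.symm)
        exact (P.3 h2 le_sup_left) ▸ mem_sup_right (mem_zpowers _)
    · have h1 : i * a * i⁻¹ ∈ h.oddPart hw := h.oddPart_conj hw ha hiw
      have h2 := mul_mem (inv_mem ha) h1
      rw [show a⁻¹ * (i * a * i⁻¹) = a⁻¹ * i * a * i⁻¹ by group] at h2
      exact h2.2
  intro b hb
  have : c * i * c⁻¹ = i := by
    rw [← hai]; exact mul_inv_eq_one.mp hX
  rw [← this]
  exact hci b hb

/-- In a generalised dihedral Sylow subgroup with a fused outside involution, the abelian part has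
a single involution. -/
theorem GenDihedral.unique_invol (h : NormProp G) (P : Sylow 2 G) {M : Subgroup G}
    (hD : GenDihedral (P : Subgroup G) M) {x i g : G} (hx : x ∈ M) (hx4 : orderOf x = 4)
    (hi : i ∈ (P : Subgroup G)) (hiM : i ∉ M) (hg : g * i * g⁻¹ ∈ M) :
    ∀ s ∈ M, s * s = 1 → s = 1 ∨ s = x ^ 2 := by
  intro s hs hs2
  by_contra hne
  push Not at hne
  set t := x ^ 2 with ht
  have ht2 : orderOf t = 2 := orderOf_sq_of_four hx4
  have htM : t ∈ M := pow_mem hx 2
  have hcen : ∀ m ∈ M, m * m = 1 → ∀ a ∈ (P : Subgroup G), Commute a m := fun m hm hm2 =>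
    (hD.central_iff (hD.le hm)).mpr ⟨hm, hm2⟩
  have hii : i * i = 1 := hD.invol i hi hiM
  have hsi : Commute s i := (hcen s hs hs2 i hi).symm
  have hti : Commute t i := (hcen t htM (Involution.mul_self_eq_one ht2) i hi).symm
  set z := g * i * g⁻¹ with hz
  have hz2 : z * z = 1 := by
    rw [hz, show g * i * g⁻¹ * (g * i * g⁻¹) = g * (i * i) * g⁻¹ by group, hii, mul_one,
      mul_inv_cancel]
  have hzc := hcen z hg hz2
  obtain ⟨c, hc, hcP⟩ := exists_conj_le_sylow P (K := cent z) (fun a ha => mem_cent.mpr (hzc a ha))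
    (R := ((P : Subgroup G) ⊓ cent i).map (MulAut.conj g).toMonoidHom)
    (by
      rintro _ ⟨a, ha, rfl⟩
      have h1 := mem_cent.mp (mem_inf.mp ha).2
      refine mem_cent.mpr ?_
      simp only [MulEquiv.coe_toMonoidHom, MulAut.conj_apply]
      show g * a * g⁻¹ * z = z * (g * a * g⁻¹)
      calc g * a * g⁻¹ * z = g * (a * i) * g⁻¹ := by rw [hz]; group
        _ = g * (i * a) * g⁻¹ := by rw [h1.eq]
        _ = z * (g * a * g⁻¹) := by rw [hz]; group)
    ((P.2.to_le inf_le_left).map _)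
  set k := (c * g)⁻¹ with hk
  have hki : ∀ a ∈ (P : Subgroup G), Commute (k * a * k⁻¹) i := by
    intro a ha
    have hiz : i = k * z * k⁻¹ := by
      rw [hk, hz, inv_inv, show (c * g)⁻¹ * (g * i * g⁻¹) * (c * g)
        = g⁻¹ * (c⁻¹ * (g * i * g⁻¹) * c) * g by group, ← hz]
      have : c⁻¹ * z * c = z := by
        rw [mul_assoc, ← (mem_cent.mp hc).eq, inv_mul_cancel_left]
      rw [this, hz]; group
    rw [hiz]
    show k * a * k⁻¹ * (k * z * k⁻¹) = k * z * k⁻¹ * (k * a * k⁻¹)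
    calc k * a * k⁻¹ * (k * z * k⁻¹) = k * (a * z) * k⁻¹ := by group
      _ = k * (z * a) * k⁻¹ := by rw [(hzc a ha).eq]
      _ = k * z * k⁻¹ * (k * a * k⁻¹) := by group
  have himg : ∀ e, e ∈ (P : Subgroup G) → Commute e i → k⁻¹ * e * k ∈ (P : Subgroup G) := by
    intro e he hei
    have := hcP _ ⟨e, mem_inf.mpr ⟨he, mem_cent.mpr hei⟩, rfl⟩
    simp only [MulEquiv.coe_toMonoidHom, MulAut.conj_apply] at this
    rwa [hk, inv_inv, show c * g * e * (c * g)⁻¹ = c * (g * e * g⁻¹) * c⁻¹ by group]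
  -- a common central involution
  obtain ⟨w, hwM, hw, hwi, hw'⟩ : ∃ w ∈ M, orderOf w = 2 ∧ Commute w i ∧
      k⁻¹ * w * k ∈ M := by
    have hs2' : orderOf s = 2 := Involution.orderOf_eq_two hs2 hne.1
    by_cases h1 : k⁻¹ * s * k ∈ M
    · exact ⟨s, hs, hs2', hsi, h1⟩
    by_cases h2 : k⁻¹ * t * k ∈ M
    · exact ⟨t, htM, ht2, hti, h2⟩
    have hst : Commute s t := hD.comm s hs t htM
    refine ⟨s * t, mul_mem hs htM, Involution.orderOf_eq_two ?_ fun e => hne.2 ?_,
      hsi.mul_left hti, ?_⟩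
    · rw [hst.symm.mul_mul_mul_comm, hs2, Involution.mul_self_eq_one ht2, one_mul]
    · exact (mul_eq_one_iff_eq_inv.mp e).trans
        (Involution.inv_eq_self (Involution.mul_self_eq_one ht2))
    · have := hD.mul _ (himg s (hD.le hs) hsi) h1 _ (himg t (hD.le htM) hti) h2
      rwa [show k⁻¹ * s * k * (k⁻¹ * t * k) = k⁻¹ * (s * t) * k by group] at this
  have hw2 := Involution.mul_self_eq_one hw
  have hkw : ∀ a ∈ (P : Subgroup G), Commute (k * a * k⁻¹) w := by
    intro a ha
    have h1 := hcen _ hw' (by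
      rw [show k⁻¹ * w * k * (k⁻¹ * w * k) = k⁻¹ * (w * w) * k by group, hw2, mul_one,
        inv_mul_cancel]) a ha
    show k * a * k⁻¹ * w = w * (k * a * k⁻¹)
    calc k * a * k⁻¹ * w = k * (a * (k⁻¹ * w * k)) * k⁻¹ := by group
      _ = k * (k⁻¹ * w * k * a) * k⁻¹ := by rw [h1.eq]
      _ = w * (k * a * k⁻¹) := by group
  exact hiM ((hD.central_iff hi).mp
    (h.central_of_common P hw (hcen w hwM hw2) hkw hi hki)).1

/-- The Brauer–Suzuki–Wall configuration. -/
theorem NormProp.exists_setup (h : NormProp G) (P : Sylow 2 G) {t s : G} {M : Subgroup G}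
    (ht : orderOf t = 2) (hMP : M ≤ (P : Subgroup G)) (htM : t ∈ M)
    (hMab : ∀ a ∈ M, ∀ b ∈ M, Commute a b) (hMu : ∀ m ∈ M, m * m = 1 → m = 1 ∨ m = t)
    (hsP : s ∈ (P : Subgroup G)) (hsM : s ∉ M) (hss : s * s = 1)
    (hinv : ∀ m ∈ M, s * m * s⁻¹ = m⁻¹) (hP : ∀ a ∈ (P : Subgroup G), a ∈ M ∨ s * a ∈ M)
    (hfree : ∀ a ∈ h.oddPart ht, Commute a s → a = 1)
    (hconj : ∀ u, orderOf u = 2 → IsConj t u)
    (hcenter : ∀ z ∈ (P : Subgroup G), orderOf z = 2 → (∀ c ∈ cent t, Commute c z) → z = t) :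
    Nonempty (BSW.Setup G) := by
  have htt : t⁻¹ = t := Involution.inv_eq_self (Involution.mul_self_eq_one ht)
  have hst : Commute s t := commute_of_conj (by rw [hinv t htM, htt])
  have hPt : ∀ a ∈ (P : Subgroup G), Commute a t := by
    intro a ha
    rcases hP a ha with haM | haM
    · exact hMab a haM t htM
    · have := hst.mul_left (hMab _ haM t htM)
      rwa [← mul_assoc, hss, one_mul] at this
  set A := h.oddPart ht with hA
  have hAM : ∀ a ∈ A, ∀ m ∈ M, Commute a m := by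
    intro a ha m hm
    rcases eq_or_ne m 1 with rfl | hm1
    · exact Commute.one_right a
    obtain ⟨u, hu, hum⟩ := exists_invol_mem P.2 (hMP hm) hm1
    have hut : u = t := (hMu u ((zpowers_le.mpr hm) hum) (Involution.mul_self_eq_one hu)).resolve_left
      (Involution.ne_one hu)
    subst hut
    refine commute_of_normalize_of_inf_bot (h.conj_mem_odd hu ha.2 ha.1 (hPt m (hMP hm)))
      (h.conj_mem hu hum ha.1) fun c hca hcm => ?_
    exact eq_one_of_odd_of_two P.2 ((zpowers_le.mpr (hMP hm)) hcm) ((zpowers_le.mpr ha) hca).2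
  let K : Subgroup G :=
    { carrier := {x | ∃ a ∈ A, ∃ m ∈ M, x = a * m}
      one_mem' := ⟨1, one_mem _, 1, one_mem _, (one_mul 1).symm⟩
      mul_mem' := by
        rintro _ _ ⟨a, ha, m, hm, rfl⟩ ⟨b, hb, n, hn, rfl⟩
        exact ⟨a * b, mul_mem ha hb, m * n, mul_mem hm hn,
          ((hAM b hb m hm).symm.mul_mul_mul_comm a n)⟩
      inv_mem' := by
        rintro _ ⟨a, ha, m, hm, rfl⟩
        exact ⟨a⁻¹, inv_mem ha, m⁻¹, inv_mem hm, by
          rw [mul_inv_rev, ((hAM a ha m hm).inv_inv).eq]⟩ }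
  have hmemK : ∀ x, x ∈ K ↔ ∃ a ∈ A, ∃ m ∈ M, x = a * m := fun x => Iff.rfl
  have hAinv : ∀ a ∈ A, s * a * s⁻¹ = a⁻¹ := fun a ha =>
    CharCount.inverts_of_fixedPointFree hss (fun b hb => h.oddPart_conj ht hb hst)
      (fun b hb e => hfree b hb (commute_of_conj e).symm) ha
  have hnormK : ∀ x ∈ K, x ≠ 1 → normalizer (zpowers x : Set G) = cent t := by
    rintro _ ⟨a, ha, m, hm, rfl⟩ hx1
    rcases eq_or_ne m 1 with rfl | hm1
    · rw [mul_one] at hx1 ⊢
      exact h.normalizer_odd ht ha.2 hx1 ha.1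
    have hne : m ^ orderOf a ≠ 1 := by
      intro e
      apply hm1
      have hd := orderOf_dvd_of_pow_eq_one e
      exact eq_one_of_odd_of_two P.2 (hMP hm) (ha.2.of_dvd_nat hd)
    obtain ⟨u, hu, hum⟩ := exists_invol_mem P.2 (pow_mem (hMP hm) _) hne
    have hut : u = t := (hMu u ((zpowers_le.mpr (pow_mem hm _)) hum)
      (Involution.mul_self_eq_one hu)).resolve_left (Involution.ne_one hu)
    subst hut
    refine h.normalizer_zpowers hu ?_ (mem_zpowers _) hx1
    rw [← pow_mul_eq_pow_of_commute (hAM a ha m hm)] at hum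
    exact (zpowers_le.mpr (pow_mem (mem_zpowers _) _)) hum
  have hKC : ∀ x ∈ K, Commute x t := by
    rintro _ ⟨a, ha, m, hm, rfl⟩
    exact ha.1.mul_left (hMab m hm t htM)
  refine ⟨{
    t := t
    K := K
    s := s
    ht := ht
    hKab := ?_
    htK := ⟨1, one_mem _, t, htM, (one_mul t).symm⟩
    hs := Involution.orderOf_eq_two hss fun e => hsM (e ▸ M.one_mem)
    hsC := hst.eq
    hsK := ?_
    hH := ?_
    hinv := ?_
    hfix := ?_
    hTI := ?_
    hconj := hconj }⟩
  · rintro _ ⟨a, ha, m, hm, rfl⟩ _ ⟨b, hb, n, hn, rfl⟩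
    have hab : Commute a b := h.commute_odd ht ha.2 hb.2 ha.1 hb.1
    exact ((hab.mul_right (hAM a ha n hn)).mul_left
      ((hAM b hb m hm).symm.mul_right (hMab m hm n hn))).eq
  · rintro ⟨a, ha, m, hm, hsam⟩
    have haP : a ∈ (P : Subgroup G) := by
      rw [show a = s * m⁻¹ by rw [hsam, mul_inv_cancel_right]]
      exact mul_mem hsP (inv_mem (hMP hm))
    rw [eq_one_of_odd_of_two P.2 haP ha.2, one_mul] at hsam
    exact hsM (hsam ▸ hm)
  · intro x hx
    obtain ⟨a, ha, p, hp, rfl⟩ := h.cent_decomp ht P hPt hx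
    rcases hP p hp with hpM | hpM
    · exact Or.inl ⟨a, ha, p, hpM, rfl⟩
    · refine Or.inr ⟨s * a * s⁻¹, h.oddPart_conj ht ha hst, s * p, hpM, ?_⟩
      group
  · rintro _ ⟨a, ha, m, hm, rfl⟩
    rw [show s * (a * m) * s⁻¹ = s * a * s⁻¹ * (s * m * s⁻¹) by group, hAinv a ha, hinv m hm,
      mul_inv_rev, ((hAM a ha m hm).inv_inv).eq]
  · rintro _ ⟨a, ha, m, hm, rfl⟩ hx2
    have h1 : a * a * (m * m) = 1 := by rwa [← (hAM a ha m hm).symm.mul_mul_mul_comm]
    have haa : a * a = 1 := eq_one_of_odd_of_two P.2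
      (by rw [mul_eq_one_iff_eq_inv.mp h1]; exact inv_mem (mul_mem (hMP hm) (hMP hm)))
      (mul_mem ha ha).2
    have ha1 : a = 1 := by
      by_contra hne
      have := ha.2
      rw [Involution.orderOf_eq_two haa hne] at this
      exact absurd this (by decide)
    subst ha1
    rw [one_mul]
    exact hMu m hm (by simpa using hx2)
  · intro g x hx hx1 hgx
    set t₀ := g⁻¹ * t * g with ht₀
    have hgx1 : g * x * g⁻¹ ≠ 1 := fun e => hx1 (by simpa using e)
    have hcomm : ∀ c ∈ cent t, Commute c t₀ := by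
      intro c hc
      rw [← hnormK x hx hx1] at hc
      have h2 : g * c * g⁻¹ ∈ normalizer (zpowers (g * x * g⁻¹) : Set G) := by
        rw [mem_normalizer_iff] at hc ⊢
        intro n
        have hconjmem : ∀ n, n ∈ zpowers (g * x * g⁻¹) ↔ g⁻¹ * n * g ∈ zpowers x := by
          intro n
          constructor
          · rintro ⟨j, rfl⟩
            simp only
            rw [conj_zpow]
            exact ⟨j, by group⟩
          · rintro ⟨j, hj⟩
            refine ⟨j, ?_⟩
            simp only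
            rw [conj_zpow, show x ^ j = g⁻¹ * n * g from hj]
            group
        rw [hconjmem, hconjmem, hc,
          show c * (g⁻¹ * n * g) * c⁻¹ = g⁻¹ * (g * c * g⁻¹ * n * (g * c * g⁻¹)⁻¹) * g by group]
      rw [hnormK _ hgx hgx1, mem_cent] at h2
      show c * t₀ = t₀ * c
      calc c * t₀ = g⁻¹ * (g * c * g⁻¹ * t) * g := by rw [ht₀]; group
        _ = g⁻¹ * (t * (g * c * g⁻¹)) * g := by rw [h2.eq]
        _ = t₀ * c := by rw [ht₀]; group
    have ht₀2 : orderOf t₀ = 2 := by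
      rw [ht₀, show g⁻¹ * t * g = g⁻¹ * t * g⁻¹⁻¹ by rw [inv_inv], Involution.orderOf_conj_eq, ht]
    have ht₀P : t₀ ∈ (P : Subgroup G) :=
      mem_sylow_of_central P ht₀2 fun a ha => hcomm a (mem_cent.mpr (hPt a ha))
    have e := hcenter t₀ ht₀P ht₀2 hcomm
    calc g * t = g * t₀ := by rw [e]
      _ = t * g := by rw [ht₀]; group

section Simple

variable [hsimp : IsSimpleGroup G]

theorem no_index_two (hne : ¬ IsMulCommutative G) (H : Subgroup G) : H.index ≠ 2 := by
  intro hH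
  have := Subgroup.normal_of_index_eq_two hH
  rcases (inferInstance : H.Normal).eq_bot_or_eq_top with rfl | rfl
  · rw [Subgroup.index_bot] at hH
    have : Fact (Nat.Prime 2) := ⟨Nat.prime_two⟩
    have : IsCyclic G := isCyclic_of_prime_card hH
    letI := IsCyclic.commGroup (α := G); exact hne ⟨⟨mul_comm⟩⟩
  · rw [Subgroup.index_top] at hH; exact absurd hH (by norm_num)

theorem exists_conj_ne (hne : ¬ IsMulCommutative G) (P : Sylow 2 G) {t : G}
    (htP : t ∈ (P : Subgroup G)) (ht : orderOf t = 2) :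
    ∃ g : G, g * t * g⁻¹ ∈ (P : Subgroup G) ∧ g * t * g⁻¹ ≠ t := by
  by_contra hcon
  push Not at hcon
  obtain ⟨N, hN, hodd, hcomm⟩ := S0215.result P t ht htP hcon
  rcases hN.eq_bot_or_eq_top with rfl | rfl
  · have htc : t ∈ center G := mem_center_iff.mpr fun g => by
      have := mem_bot.mp (hcomm g)
      exact (commute_of_conj (mul_inv_eq_one.mp this)).symm.eq
    rcases (inferInstance : (center G).Normal).eq_bot_or_eq_top with hc | hc
    · exact Involution.ne_one ht (mem_bot.mp (hc ▸ htc))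
    · exact hne ⟨⟨fun a b => (mem_center_iff.mp (hc ▸ mem_top b) a)⟩⟩
  · rw [Subgroup.card_top] at hodd
    have := orderOf_dvd_natCard t
    rw [ht] at this
    exact absurd (even_iff_two_dvd.mpr this) (Nat.not_even_iff_odd.mpr hodd)

theorem exists_conj_into (P : Sylow 2 G) {u : G} (hu : orderOf u = 2) :
    ∃ c : G, c * u * c⁻¹ ∈ (P : Subgroup G) := by
  obtain ⟨c, -, hc⟩ := exists_conj_le_sylow P (K := ⊤) le_top le_top (isPGroup_zpowers_invol hu)
  exact ⟨c, hc u (mem_zpowers u)⟩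

/-- A simple group with a BSW configuration is `PSL₂(q)` with `q > 3` odd. -/
theorem psl_of_setup (S : BSW.Setup G) :
    ∃ (F : Type) (_ : Field F) (_ : Fintype F), 3 < Fintype.card F ∧
      Nonempty (G ≃* Matrix.ProjectiveSpecialLinearGroup (Fin 2) F) := by
  obtain ⟨Q, D, hord, hCQ, hDab, hqd, hQD, hN, hX⟩ := S.exists_structure
  obtain ⟨F, _, _, hodd, ⟨e⟩⟩ := BSW.exists_mulEquiv_PSL Q D hord hCQ hDab hqd hQD hN hX
  refine ⟨F, inferInstance, inferInstance, ?_, ⟨e⟩⟩
  have h1 := Fintype.one_lt_card (α := F)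
  rcases Nat.lt_or_ge 3 (Fintype.card F) with h | h
  · exact h
  exfalso
  have h3 : Fintype.card F = 3 := by rw [Nat.odd_iff] at hodd; omega
  obtain ⟨e'⟩ := S0251.result h3
  have hcard : Nat.card (Fin 4) = 4 := by simp
  have hs : IsSimpleGroup (alternatingGroup (Fin 4)) := (e.trans e').symm.isSimpleGroup
  have hK4 := alternatingGroup.kleinFour_isKleinFour (α := Fin 4) hcard
  have hchar := alternatingGroup.characteristic_kleinFour (α := Fin 4) hcard
  have h4 : Nat.card (alternatingGroup.kleinFour (Fin 4)) = 4 := hK4.card_four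
  have h12 : Nat.card (alternatingGroup (Fin 4)) = 12 := by
    rw [nat_card_alternatingGroup]; simp; decide
  rcases (inferInstance : (alternatingGroup.kleinFour (Fin 4)).Normal).eq_bot_or_eq_top with h | h
  · rw [h, Subgroup.card_bot] at h4; exact absurd h4 (by norm_num)
  · rw [h, Subgroup.card_top, h12] at h4; exact absurd h4 (by norm_num)

/-- A nontrivial element has a power of prime order. -/
theorem exists_prime_pow {a : G} (ha : a ≠ 1) :
    ∃ k : ℕ, (orderOf (a ^ k)).Prime := by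
  obtain ⟨p, hp, hd⟩ := Nat.exists_prime_and_dvd (fun h => ha (orderOf_eq_one_iff.mp h))
  exact ⟨orderOf a / p, by rw [orderOf_pow_orderOf_div (orderOf_pos a).ne' hd]; exact hp⟩

/-- An element of order two normalising a subgroup of prime order fixes or inverts it. -/
theorem fix_or_invert {p b : G} (hp : p * p = 1) (hb : (orderOf b).Prime)
    (hn : p * b * p⁻¹ ∈ zpowers b) : p * b * p⁻¹ = b ∨ p * b * p⁻¹ = b⁻¹ := by
  obtain ⟨k, hk⟩ := hn
  simp only at hk
  have h1 : b ^ (k * k) = b := by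
    rw [zpow_mul, hk, conj_zpow, hk, show p * (p * b * p⁻¹) * p⁻¹ = p * p * b * (p * p)⁻¹ by group,
      hp]
    simp
  have h2 : (orderOf b : ℤ) ∣ k * k - 1 := by
    rw [orderOf_dvd_iff_zpow_eq_one, zpow_sub, h1, zpow_one, mul_inv_cancel]
  rw [show k * k - 1 = (k - 1) * (k + 1) by ring] at h2
  rcases (Nat.prime_iff_prime_int.mp hb).dvd_or_dvd h2 with h | h
  · left
    rw [← hk]
    rw [orderOf_dvd_iff_zpow_eq_one, zpow_sub, zpow_one, mul_inv_eq_one] at h
    exact h
  · right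
    rw [← hk]
    rw [orderOf_dvd_iff_zpow_eq_one, zpow_add, zpow_one] at h
    exact mul_eq_one_iff_eq_inv.mp h

/-- Simple groups with abelian involution centralisers. -/
theorem psl_of_abelian_cent (hne : ¬ IsMulCommutative G) (P : Sylow 2 G)
    (hPab : ∀ a ∈ (P : Subgroup G), ∀ b ∈ (P : Subgroup G), Commute a b)
    (heven : Even (Nat.card G))
    (hC : ∀ t : G, orderOf t = 2 → ∀ a ∈ cent t, ∀ b ∈ cent t, Commute a b) :
    ∃ (F : Type) (_ : Field F) (_ : Fintype F), 3 < Fintype.card F ∧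
      Nonempty (G ≃* Matrix.ProjectiveSpecialLinearGroup (Fin 2) F) := by
  have : Fact (Nat.Prime 2) := ⟨Nat.prime_two⟩
  have hnc : ¬ IsCyclic ↥(P : Subgroup G) := fun hc => by
    obtain ⟨H, -, hH⟩ := Involution.exists_index_two_of_isCyclic_sylow heven P hc
    exact no_index_two hne H hH
  rcases S2202.result heven (fun t ht => ⟨⟨fun a b => Subtype.ext (hC t ht a a.2 b b.2).eq⟩⟩)
    with hcyc | hnorm | ⟨F, _, _, A, _, _, hchar, hA, ⟨e⟩⟩
  · exact absurd (hcyc P) hnc
  · exfalso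
    rcases (hnorm P).eq_bot_or_eq_top with hP | hP
    · exact hnc (hP ▸ inferInstance)
    · exact hne ⟨⟨fun a b => (hPab a (hP ▸ mem_top a) b (hP ▸ mem_top b)).eq⟩⟩
  have hA1 : Subsingleton A := by
    refine subsingleton_of_forall_eq 1 fun a => ?_
    have hc : e.symm (1, a) ∈ center G := mem_center_iff.mpr fun g => by
      apply e.injective
      rw [map_mul, map_mul, e.apply_symm_apply]
      obtain ⟨y, b⟩ := e g
      simp [mul_comm]
    rcases (inferInstance : (center G).Normal).eq_bot_or_eq_top with hb | hb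
    · rw [hb, mem_bot] at hc
      have := congrArg e hc
      rw [e.apply_symm_apply, map_one, Prod.ext_iff] at this
      exact this.2
    · exact absurd ⟨⟨fun a b => (mem_center_iff.mp (hb ▸ mem_top b) a)⟩⟩ hne
  have : Unique A := uniqueOfSubsingleton 1
  let e1 : G ≃* Matrix.SpecialLinearGroup (Fin 2) F := e.trans MulEquiv.prodUnique
  have hcen : center (Matrix.SpecialLinearGroup (Fin 2) F) = ⊥ := by
    rw [eq_bot_iff]
    intro z hz
    rw [Matrix.SpecialLinearGroup.mem_center_iff] at hz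
    obtain ⟨r, hr, hrz⟩ := hz
    have hr1 : r = 1 := by
      rw [Fintype.card_fin] at hr
      have : (r - 1) ^ 2 = 0 := by
        rw [sub_pow_char, hr, one_pow, sub_self]
      exact sub_eq_zero.mp (pow_eq_zero_iff two_ne_zero |>.mp this)
    rw [mem_bot]
    ext i j
    rw [← hrz, hr1, map_one]
    rfl
  let e2 : Matrix.SpecialLinearGroup (Fin 2) F ≃*
      Matrix.ProjectiveSpecialLinearGroup (Fin 2) F :=
    (QuotientGroup.quotientBot).symm.trans (QuotientGroup.quotientMulEquivOfEq hcen.symm)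
  refine ⟨F, inferInstance, inferInstance, ?_, ⟨e1.trans e2⟩⟩
  by_contra hsmall
  have h1 := Fintype.one_lt_card (α := F)
  have h2 : Fintype.card F = 2 := by
    obtain ⟨n, -, hn⟩ := FiniteField.card F 2
    rcases Nat.lt_or_ge (n : ℕ) 2 with h | h
    · rw [hn, show (n : ℕ) = 1 by have := n.pos; omega, pow_one]
    · have : 2 ^ 2 ≤ 2 ^ (n : ℕ) := Nat.pow_le_pow_right two_pos h
      omega
  have h6 : Nat.card G = 6 := by
    have := Lib.LinGroup.card_PSL_two_mul (F := F)
    rw [h2] at this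
    rw [Nat.card_congr (e1.trans e2).toEquiv]
    norm_num [-Nat.card_eq_fintype_card] at this
    omega
  apply hnc
  have hdvd : Nat.card (P : Subgroup G) ∣ 6 := h6 ▸ Subgroup.card_subgroup_dvd_card _
  obtain ⟨k, hk⟩ := IsPGroup.iff_card.mp P.2
  rw [hk] at hdvd
  have hk1 : k ≤ 1 := by
    by_contra hk2
    exact absurd ((pow_dvd_pow 2 (show 2 ≤ k by omega)).trans hdvd) (by decide)
  interval_cases k
  · exact @isCyclic_of_subsingleton _ _ (Nat.card_eq_one_iff_unique.mp hk).1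
  · exact isCyclic_of_prime_card (by rw [hk, pow_one])

/-- Abelian Sylow subgroup with elements of order four: all centralisers are abelian. -/
theorem NormProp.commute_of_root (h : NormProp G) (hne : ¬ IsMulCommutative G) (P : Sylow 2 G)
    (hPab : ∀ a ∈ (P : Subgroup G), ∀ b ∈ (P : Subgroup G), Commute a b) {y : G}
    (hy : y ∈ (P : Subgroup G)) (hy4 : orderOf y = 4) {s a : G} (hs : orderOf s = 2)
    (hsP : s ∈ (P : Subgroup G)) (hao : Odd (orderOf a)) (has : Commute a s) :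
    ∀ p ∈ (P : Subgroup G), Commute a p := by
  have : Fact (Nat.Prime 2) := ⟨Nat.prime_two⟩
  rcases eq_or_ne a 1 with rfl | ha1
  · exact fun p _ => Commute.one_left p
  -- odd elements centralising an involution centralise its roots
  have hroot : ∀ {r u b : G}, r ∈ (P : Subgroup G) → orderOf u = 2 → u ∈ zpowers r →
      Odd (orderOf b) → Commute b u → Commute b r := by
    intro r u b hr hu hur hb hbu
    have hru : Commute r u := by
      obtain ⟨j, hj⟩ := hur
      rw [← hj]; exact (Commute.refl r).zpow_right j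
    refine commute_of_normalize_of_inf_bot (h.conj_mem_odd hu hb hbu hru)
      (h.conj_mem hu hur hbu) fun c hcb hcr => ?_
    refine eq_one_of_odd_of_two P.2 ((zpowers_le.mpr hr) hcr) ?_
    obtain ⟨j, hj⟩ := hcb
    rw [← hj]
    exact hb.of_dvd_nat (orderOf_dvd_of_mem_zpowers ⟨j, rfl⟩)
  -- if a root involution has nontrivial odd part then all centralisers agree
  have hall : ∀ {r : G}, r ∈ (P : Subgroup G) → orderOf r = 4 →
      (∃ b, b ≠ 1 ∧ Odd (orderOf b) ∧ Commute b (r ^ 2)) →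
      ∀ p ∈ (P : Subgroup G), Commute a p := by
    rintro r hr hr4 ⟨b, hb1, hbo, hbr⟩
    have hu2 : orderOf (r ^ 2) = 2 := orderOf_sq_of_four hr4
    have hbinv : ∀ w ∈ (P : Subgroup G), w * w = 1 → Commute b w := by
      intro w hw hw2
      have hrw : Commute r w := hPab r hr w hw
      have h1 := hroot hr hu2 (pow_mem (mem_zpowers r) 2) hbo hbr
      have h2 := hroot (mul_mem hr hw) hu2 (by
        have : (r * w) ^ 2 = r ^ 2 := by rw [hrw.mul_pow, pow_two w, hw2, mul_one]
        exact this ▸ pow_mem (mem_zpowers (r * w)) 2) hbo hbr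
      have := h1.inv_right.mul_right h2
      rwa [inv_mul_cancel_left] at this
    have hcent : ∀ w ∈ (P : Subgroup G), orderOf w = 2 → Commute a w := by
      intro w hw hw2
      have e := h.cent_eq hw2 hs hbo hb1 (hbinv w hw (Involution.mul_self_eq_one hw2))
        (hbinv s hsP (Involution.mul_self_eq_one hs))
      exact mem_cent.mp (e ▸ mem_cent.mpr has)
    intro p hp
    rcases eq_or_ne p 1 with rfl | hp1
    · exact Commute.one_right a
    obtain ⟨w, hw2, hwp⟩ := exists_invol_mem P.2 hp hp1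
    exact hroot hp hw2 hwp hao (hcent w ((zpowers_le.mpr hp) hwp) hw2)
  -- two root involutions
  have hu2 : orderOf (y ^ 2) = 2 := orderOf_sq_of_four hy4
  obtain ⟨g, hgP, hgne⟩ := exists_conj_ne hne P (pow_mem hy 2) hu2
  have hcen : ∀ {z}, z ∈ (P : Subgroup G) → z ∈ centralizer ((P : Subgroup G) : Set G) :=
    fun hz => mem_centralizer_iff.mpr fun w hw => hPab w hw _ hz
  obtain ⟨n, hnN, hn⟩ := P.conj_eq_normalizer_conj_of_mem_centralizer (y ^ 2) g⁻¹
    (hcen (pow_mem hy 2)) (by rw [inv_inv]; exact hcen hgP)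
  rw [inv_inv] at hn
  set y' := n⁻¹ * y * n with hy'
  have hy'P : y' ∈ (P : Subgroup G) := (mem_normalizer_iff''.mp hnN y).mp hy
  have hy'4 : orderOf y' = 4 := by
    rw [hy', show n⁻¹ * y * n = n⁻¹ * y * n⁻¹⁻¹ by rw [inv_inv], Involution.orderOf_conj_eq, hy4]
  have hy'2 : y' ^ 2 = g * y ^ 2 * g⁻¹ := by
    rw [hn, hy', show n⁻¹ * y * n = n⁻¹ * y * n⁻¹⁻¹ by rw [inv_inv], conj_pow, inv_inv]
  obtain ⟨k, hk⟩ := exists_prime_pow ha1
  set b := a ^ k
  have hbo : Odd (orderOf b) := hao.of_dvd_nat (orderOf_pow_dvd k)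
  have hbs : Commute b s := has.pow_left k
  have hb1 : b ≠ 1 := fun e => hk.ne_one (by rw [e, orderOf_one])
  have hstep : ∀ r ∈ (P : Subgroup G), orderOf r = 4 →
      (∀ p ∈ (P : Subgroup G), Commute a p) ∨ r ^ 2 * b * (r ^ 2)⁻¹ = b⁻¹ := by
    intro r hr hr4
    rcases fix_or_invert (Involution.mul_self_eq_one (orderOf_sq_of_four hr4)) hk
        (h.conj_mem_odd hs hbo hbs (hPab _ (pow_mem hr 2) s hsP)) with e | e
    · exact Or.inl (hall hr hr4 ⟨b, hb1, hbo, (commute_of_conj e).symm⟩)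
    · exact Or.inr e
  rcases hstep y hy hy4 with e1 | e1
  · exact e1
  rcases hstep y' hy'P hy'4 with e2 | e2
  · exact e2
  have hyy : Commute y y' := hPab y hy y' hy'P
  have hu'2 : orderOf (y' ^ 2) = 2 := orderOf_sq_of_four hy'4
  have hmul : (y * y') ^ 2 = y ^ 2 * y' ^ 2 := hyy.mul_pow 2
  refine hall (mul_mem hy hy'P) (orderOf_eq_four (t := y ^ 2 * y' ^ 2) ?_ (by
    rw [← pow_two, hmul])) ⟨b, hb1, hbo, (commute_of_conj ?_).symm⟩
  · refine Involution.orderOf_eq_two ?_ fun e => hgne ?_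
    · rw [(hPab _ (pow_mem hy'P 2) _ (pow_mem hy 2)).mul_mul_mul_comm,
        Involution.mul_self_eq_one hu2, Involution.mul_self_eq_one hu'2, one_mul]
    · rw [← hy'2, (mul_eq_one_iff_eq_inv.mp e),
        Involution.inv_eq_self (Involution.mul_self_eq_one hu'2)]
  · rw [hmul, show y ^ 2 * y' ^ 2 * b * (y ^ 2 * y' ^ 2)⁻¹
        = y ^ 2 * (y' ^ 2 * b * (y' ^ 2)⁻¹) * (y ^ 2)⁻¹ by group, e2, ← conj_inv, e1, inv_inv]

/-- The classification in the simple case. -/
theorem NormProp.exists_psl (h : NormProp G) (hne : ¬ IsMulCommutative G)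
    (heven : Even (Nat.card G)) :
    ∃ (F : Type) (_ : Field F) (_ : Fintype F), 3 < Fintype.card F ∧
      Nonempty (G ≃* Matrix.ProjectiveSpecialLinearGroup (Fin 2) F) := by
  classical
  have : Fact (Nat.Prime 2) := ⟨Nat.prime_two⟩
  obtain ⟨P⟩ : Nonempty (Sylow 2 G) := inferInstance
  rcases sylow_structure h P (fun t htP ht _ => exists_conj_ne hne P htP ht) with hab | ⟨M, hD⟩
  swap
  · -- dihedral
    obtain ⟨x, hxM, hx4⟩ := hD.root
    obtain ⟨i, hi, hiM⟩ := hD.outside
    set t := x ^ 2 with ht'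
    have ht : orderOf t = 2 := orderOf_sq_of_four hx4
    have htM : t ∈ M := pow_mem hxM 2
    have hi2 : orderOf i = 2 :=
      Involution.orderOf_eq_two (hD.invol i hi hiM) fun e => hiM (e ▸ M.one_mem)
    have hrel : M.relIndex (P : Subgroup G) = 2 := by
      rw [relIndex, index_eq_two_iff]
      refine ⟨⟨i, hi⟩, fun b => ?_⟩
      simp only [mem_subgroupOf, Subgroup.coe_mul]
      by_cases hb : (b : G) ∈ M
      · exact Or.inr ⟨hb, fun hbi => hiM (by simpa using mul_mem (inv_mem hb) hbi)⟩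
      · exact Or.inl ⟨hD.mul b b.2 hb i hi hiM, hb⟩
    have hinto : ∀ w, orderOf w = 2 → ∃ g : G, g * w * g⁻¹ ∈ M := fun w hw =>
      Involution.exists_conj_mem_of_no_index_two (no_index_two hne) P M hD.le hrel w hw
    obtain ⟨g, hg⟩ := hinto i hi2
    have hMu := GenDihedral.unique_invol h P hD hxM hx4 hi hiM hg
    have hcen : ∀ a ∈ (P : Subgroup G), Commute a t :=
      (hD.central_iff (hD.le htM)).mpr ⟨htM, Involution.mul_self_eq_one ht⟩
    obtain ⟨S⟩ := h.exists_setup P ht hD.le htM hD.comm hMu hi hiM (hD.invol i hi hiM)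
      (hD.inv i hi hiM)
      (fun a ha => if haM : a ∈ M then Or.inl haM else Or.inr (hD.mul i hi hiM a ha haM))
      (fun a ha hai => by
        by_contra ha1
        have e := h.cent_eq hi2 ht ha.2 ha1 hai ha.1
        exact hiM ((hD.central_iff hi).mp fun b hb =>
          mem_cent.mp (e ▸ mem_cent.mpr (hcen b hb))).1)
      (fun w hw => by
        obtain ⟨g, hg⟩ := hinto w hw
        rcases hMu _ hg (Involution.mul_self_eq_one (by rw [Involution.orderOf_conj_eq, hw]))
          with e | e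
        · rw [conj_eq_one_iff] at e
          exact absurd e (Involution.ne_one hw)
        · exact (isConj_iff.mpr ⟨g, e⟩).symm)
      (fun z hzP hz hzc => by
        have hzM := (hD.central_iff hzP).mp fun b hb => hzc b (mem_cent.mpr (hcen b hb))
        exact (hMu z hzM.1 hzM.2).resolve_left (Involution.ne_one hz))
    exact psl_of_setup S
  -- abelian
  have hred : (∀ s, orderOf s = 2 → s ∈ (P : Subgroup G) → ∀ a, Odd (orderOf a) → Commute a s →
      ∀ p ∈ (P : Subgroup G), Commute a p) →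
      ∃ (F : Type) (_ : Field F) (_ : Fintype F), 3 < Fintype.card F ∧
        Nonempty (G ≃* Matrix.ProjectiveSpecialLinearGroup (Fin 2) F) := by
    intro hcomm
    refine psl_of_abelian_cent hne P hab heven fun w hw a ha b hb => ?_
    obtain ⟨c, hc⟩ := exists_conj_into P hw
    set s := c * w * c⁻¹ with hs'
    have hs : orderOf s = 2 := by rw [hs', Involution.orderOf_conj_eq, hw]
    have hPs : ∀ q ∈ (P : Subgroup G), Commute q s := fun q hq => hab q hq s hc
    have hcs : ∀ a, a ∈ cent w → Commute (c * a * c⁻¹) s := by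
      intro a ha
      show c * a * c⁻¹ * (c * w * c⁻¹) = c * w * c⁻¹ * (c * a * c⁻¹)
      calc c * a * c⁻¹ * (c * w * c⁻¹) = c * (a * w) * c⁻¹ := by group
        _ = c * (w * a) * c⁻¹ := by rw [(mem_cent.mp ha).eq]
        _ = _ := by group
    obtain ⟨a1, ha1, p1, hp1, he1⟩ := h.cent_decomp hs P hPs (hcs a ha)
    obtain ⟨a2, ha2, p2, hp2, he2⟩ := h.cent_decomp hs P hPs (hcs b hb)
    have h12 : Commute (c * a * c⁻¹) (c * b * c⁻¹) := by
      rw [he1, he2]
      exact (((h.commute_odd hs ha1.2 ha2.2 ha1.1 ha2.1).mul_right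
        (hcomm s hs hc a1 ha1.2 ha1.1 p2 hp2)).mul_left
        ((hcomm s hs hc a2 ha2.2 ha2.1 p1 hp1).symm.mul_right (hab p1 hp1 p2 hp2)))
    have := congrArg (fun x => c⁻¹ * x * c) h12.eq
    show a * b = b * a
    rw [show a * b = c⁻¹ * (c * a * c⁻¹ * (c * b * c⁻¹)) * c by group, this]
    group
  by_cases hroots : ∃ y ∈ (P : Subgroup G), orderOf y = 4
  · obtain ⟨y, hy, hy4⟩ := hroots
    exact hred fun s hs hsP a hao has => h.commute_of_root hne P hab hy hy4 hs hsP hao has
  have hexp : ∀ q ∈ (P : Subgroup G), q * q = 1 := fun q hq => by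
    by_contra hq2
    obtain ⟨r, hr, hr4, -⟩ := exists_root P.2 hq hq2
    exact hroots ⟨r, (zpowers_le.mpr hq) hr, hr4⟩
  by_cases hcomm : ∀ s, orderOf s = 2 → s ∈ (P : Subgroup G) → ∀ a, Odd (orderOf a) → Commute a s →
      ∀ p ∈ (P : Subgroup G), Commute a p
  · exact hred hcomm
  -- prime order elements centralising an involution of `P`
  let IsB : G → Prop := fun b => (orderOf b).Prime ∧ Odd (orderOf b) ∧
    ∃ w ∈ (P : Subgroup G), orderOf w = 2 ∧ Commute b w
  have hpm : ∀ b, IsB b → ∀ p ∈ (P : Subgroup G), p * b * p⁻¹ = b ∨ p * b * p⁻¹ = b⁻¹ := by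
    rintro b ⟨hb, hbo, w, hw, hw2, hbw⟩ p hp
    exact fix_or_invert (hexp p hp) hb (h.conj_mem_odd hw2 hbo hbw (hab p hp w hw))
  have hnocentral : ∀ b, IsB b → ∃ p ∈ (P : Subgroup G), ¬ Commute b p := by
    rintro b ⟨hb, hbo, -⟩
    by_contra hc
    push Not at hc
    apply hcomm
    intro s hs hsP a hao has p hp
    rcases eq_or_ne p 1 with rfl | hp1
    · exact Commute.one_right a
    have e := h.cent_eq hs (Involution.orderOf_eq_two (hexp p hp) hp1) hbo
      (fun e => hb.ne_one (by rw [e, orderOf_one])) (hc s hsP) (hc p hp)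
    exact mem_cent.mp (e ▸ mem_cent.mpr has)
  have hBodd : ∀ a s : G, orderOf s = 2 → s ∈ (P : Subgroup G) → Odd (orderOf a) → a ≠ 1 →
      Commute a s → ∃ k, IsB (a ^ k) := by
    intro a s hs hsP hao ha1 has
    obtain ⟨k, hk⟩ := exists_prime_pow ha1
    exact ⟨k, hk, hao.of_dvd_nat (orderOf_pow_dvd k), s, hsP, hs, has.pow_left k⟩
  -- a first element
  push Not at hcomm
  obtain ⟨s₀, hs₀, hs₀P, a₀, ha₀o, ha₀s, p₀, hp₀, hap⟩ := hcomm
  have ha₀1 : a₀ ≠ 1 := fun e => hap (e ▸ Commute.one_left p₀)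
  obtain ⟨k₀, hB⟩ := hBodd a₀ s₀ hs₀ hs₀P ha₀o ha₀1 ha₀s
  set b := a₀ ^ k₀
  obtain ⟨hbp, hbo, w, hwP, hw2, hbw⟩ := id hB
  obtain ⟨i, hi, hbi⟩ := hnocentral b hB
  have hb1 : b ≠ 1 := fun e => hbp.ne_one (by rw [e, orderOf_one])
  set W : Subgroup G := (P : Subgroup G) ⊓ cent b with hW
  have hmemW : ∀ q, q ∈ W ↔ q ∈ (P : Subgroup G) ∧ Commute q b := fun q => by
    rw [hW, mem_inf, mem_cent]
  have hiW : i ∉ W := fun hh => hbi ((hmemW i).mp hh).2.symm
  have hprod : ∀ q ∈ (P : Subgroup G), q ∉ W → ∀ q' ∈ (P : Subgroup G), q' ∉ W → q * q' ∈ W := by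
    intro q hq hqW q' hq' hqW'
    have h1 := (hpm b hB q hq).resolve_left fun e => hqW ((hmemW q).mpr ⟨hq, commute_of_conj e⟩)
    have h2 := (hpm b hB q' hq').resolve_left fun e =>
      hqW' ((hmemW q').mpr ⟨hq', commute_of_conj e⟩)
    refine (hmemW _).mpr ⟨mul_mem hq hq', commute_of_conj ?_⟩
    rw [show q * q' * b * (q * q')⁻¹ = q * (q' * b * q'⁻¹) * q⁻¹ by group, h2, ← conj_inv, h1,
      inv_inv]
  have hrel : W.relIndex (P : Subgroup G) = 2 := by
    rw [relIndex, index_eq_two_iff]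
    refine ⟨⟨i, hi⟩, fun q => ?_⟩
    simp only [mem_subgroupOf, Subgroup.coe_mul]
    by_cases hq : (q : G) ∈ W
    · exact Or.inr ⟨hq, fun hqi => hiW (by simpa using mul_mem (inv_mem hq) hqi)⟩
    · exact Or.inl ⟨hprod q q.2 hq i hi hiW, hq⟩
  have hinto : ∀ z, orderOf z = 2 → ∃ g : G, g * z * g⁻¹ ∈ W := fun z hz =>
    Involution.exists_conj_mem_of_no_index_two (no_index_two hne) P W inf_le_left hrel z hz
  have hwW : w ∈ W := (hmemW w).mpr ⟨hwP, hbw.symm⟩
  by_cases hW2 : ∀ q ∈ W, q = 1 ∨ q = w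
  · -- four group
    have hAfree : ∀ a ∈ h.oddPart hw2, Commute a i → a = 1 := by
      intro a ha hai
      by_contra ha1
      obtain ⟨k, hk⟩ := hBodd a w hw2 hwP ha.2 ha1 ha.1
      obtain ⟨q, hq, hnc⟩ := hnocentral _ hk
      apply hnc
      by_cases hqW : q ∈ W
      · rcases hW2 q hqW with rfl | rfl
        · exact Commute.one_right _
        · exact ha.1.pow_left k
      · rcases hW2 _ (hprod q hq hqW i hi hiW) with e | e
        · rw [mul_eq_one_iff_eq_inv.mp e, Involution.inv_eq_self (hexp i hi)]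
          exact hai.pow_left k
        · rw [show q = w * i by rw [← e, mul_assoc, hexp i hi, mul_one]]
          exact (ha.1.mul_right hai).pow_left k
    obtain ⟨S⟩ := h.exists_setup P hw2 (M := W) inf_le_left hwW
      (fun x hx y hy => hab x ((hmemW x).mp hx).1 y ((hmemW y).mp hy).1)
      (fun m hm _ => hW2 m hm) hi hiW (hexp i hi)
      (fun m hm => by
        rw [conj_of_commute (hab i hi m ((hmemW m).mp hm).1),
          Involution.inv_eq_self (hexp m ((hmemW m).mp hm).1)])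
      (fun q hq => if hqW : q ∈ W then Or.inl hqW else Or.inr (hprod i hi hiW q hq hqW))
      hAfree
      (fun z hz => by
        obtain ⟨g, hg⟩ := hinto z hz
        rcases hW2 _ hg with e | e
        · rw [conj_eq_one_iff] at e
          exact absurd e (Involution.ne_one hz)
        · exact (isConj_iff.mpr ⟨g, e⟩).symm)
      (fun z hzP hz hzc => by
        refine (hW2 z ((hmemW z).mpr ⟨hzP, (hzc b (mem_cent.mpr hbw)).symm⟩)).resolve_left
          (Involution.ne_one hz))
    exact psl_of_setup S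
  -- larger rank: every such element has the same centralised hyperplane
  exfalso
  push Not at hW2
  obtain ⟨w', hw'W, hw'1, hw'ne⟩ := hW2
  have hw'2 : orderOf w' = 2 :=
    Involution.orderOf_eq_two (hexp w' ((hmemW w').mp hw'W).1) hw'1
  have hsame : ∀ b', IsB b' → ∀ q ∈ (P : Subgroup G), Commute b' q → q ∈ W := by
    intro b' hB' q hq hb'q
    have hb'1 : b' ≠ 1 := fun e => hB'.1.ne_one (by rw [e, orderOf_one])
    obtain ⟨z, hzW, hz2, hb'z⟩ : ∃ z ∈ W, orderOf z = 2 ∧ Commute b' z := by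
      rcases hpm b' hB' w hwP with e | e
      · exact ⟨w, hwW, hw2, (commute_of_conj e).symm⟩
      rcases hpm b' hB' w' ((hmemW w').mp hw'W).1 with e' | e'
      · exact ⟨w', hw'W, hw'2, (commute_of_conj e').symm⟩
      refine ⟨w * w', mul_mem hwW hw'W, Involution.orderOf_eq_two
        (hexp _ ((hmemW _).mp (mul_mem hwW hw'W)).1) fun e3 => hw'ne ?_, (commute_of_conj ?_).symm⟩
      · exact (eq_inv_of_mul_eq_one_right e3).trans
          (Involution.inv_eq_self (Involution.mul_self_eq_one hw2))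
      · rw [show w * w' * b' * (w * w')⁻¹ = w * (w' * b' * w'⁻¹) * w⁻¹ by group, e', ← conj_inv, e,
          inv_inv]
    rcases eq_or_ne q 1 with rfl | hq1
    · exact one_mem W
    have e := h.cent_eq (Involution.orderOf_eq_two (hexp q hq) hq1) hz2 hB'.2.1 hb'1 hb'q hb'z
    refine (hmemW q).mpr ⟨hq, ?_⟩
    exact (mem_cent.mp (e.symm ▸ mem_cent.mpr ((hmemW z).mp hzW).2.symm)).symm
  have hi2 : orderOf i = 2 :=
    Involution.orderOf_eq_two (hexp i hi) fun e => hiW (e ▸ W.one_mem)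
  obtain ⟨g, hg⟩ := hinto i hi2
  -- `g⁻¹ b g` centralises `i`
  have hgi : Commute (g⁻¹ * b * g) i := by
    show g⁻¹ * b * g * i = i * (g⁻¹ * b * g)
    calc g⁻¹ * b * g * i = g⁻¹ * (b * (g * i * g⁻¹)) * g := by group
      _ = g⁻¹ * (g * i * g⁻¹ * b) * g := by rw [((hmemW _).mp hg).2.eq]
      _ = i * (g⁻¹ * b * g) := by group
  have hord : orderOf (g⁻¹ * b * g) = orderOf b := by
    rw [show g⁻¹ * b * g = g⁻¹ * b * g⁻¹⁻¹ by rw [inv_inv], Involution.orderOf_conj_eq]
  exact hiW (hsame (g⁻¹ * b * g) ⟨hord ▸ hbp, hord ▸ hbo, i, hi, hi2, hgi⟩ i hi hgi)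

end Simple

end Cfsg.Agent.Lib.CyclicNorm64
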