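import Cfsg.Agent.Lib.CyclicNorm64.Basic

/-!
# The normaliser property passes to subgroups
-/

set_option autoImplicit false

namespace Cfsg.Agent.Lib.CyclicNorm64

open Subgroup

variable {G H : Type*} [Group G] [Group H]

theorem mem_normalizer_map_iff {f : H →* G} (hf : Function.Injective f) {X : Subgroup H} {g : H} :
    g ∈ normalizer (X : Set H) ↔ f g ∈ normalizer ((X.map f : Subgroup G) : Set G) := by
  have key : ∀ n : H, f g * f n * (f g)⁻¹ = f (g * n * g⁻¹) := fun n => by
    rw [map_mul, map_mul, map_inv]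
  rw [mem_normalizer_iff, mem_normalizer_iff]
  constructor
  · intro h m
    constructor
    · rintro ⟨n, hn, rfl⟩
      exact ⟨g * n * g⁻¹, (h n).mp hn, (key n).symm⟩
    · rintro ⟨n, hn, he⟩
      refine ⟨g⁻¹ * n * g, (h _).mpr (by rw [show g * (g⁻¹ * n * g) * g⁻¹ = n by group]; exact hn), ?_⟩
      rw [map_mul, map_mul, map_inv, he]
      group
  · intro h n
    rw [← mem_map_iff_mem hf, h (f n), key, mem_map_iff_mem hf]

/-- A group embedded in a group with the normaliser property has it. -/
theorem NormProp.of_injective (h : NormProp G) (f : H →* G) (hf : Function.Injective f) :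
    NormProp H := by
  intro X hX hXe Y hYX hY
  have hXc : IsCyclic (X.map f) := isCyclic_of_surjective _ (X.equivMapOfInjective f hf).surjective
  have he : Even (Nat.card (X.map f)) := by
    rwa [Nat.card_congr (X.equivMapOfInjective f hf).toEquiv.symm]
  have key := h _ hXc he (Y.map f) (map_mono hYX) fun e => hY ((map_eq_bot_iff_of_injective Y hf).mp e)
  ext g
  rw [mem_normalizer_map_iff hf, key, ← mem_normalizer_map_iff hf]

theorem NormProp.of_mulEquiv (h : NormProp G) (e : H ≃* G) : NormProp H :=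
  h.of_injective e.toMonoidHom e.injective

theorem NormProp.subgroup (h : NormProp G) (K : Subgroup G) : NormProp K :=
  h.of_injective K.subtype K.subtype_injective

section Inner

variable [Finite G]

/-- The consequences of the property for elements of a subgroup, read in the whole group. -/
theorem NormProp.conj_mem_of_subgroup {K : Subgroup G} (h : NormProp K) {t x g : G}
    (htK : t ∈ K) (hxK : x ∈ K) (hgK : g ∈ K) (ht : orderOf t = 2) (htx : t ∈ zpowers x)
    (hg : Commute g t) : g * x * g⁻¹ ∈ zpowers x := by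
  obtain ⟨k, hk⟩ := htx
  obtain ⟨m, hm⟩ := h.conj_mem (t := ⟨t, htK⟩) (x := ⟨x, hxK⟩) (g := ⟨g, hgK⟩)
    (by rw [Subgroup.orderOf_mk, ht]) ⟨k, Subtype.ext (by simpa using hk)⟩ (Subtype.ext hg.eq)
  exact ⟨m, by simpa using congrArg Subtype.val hm⟩

theorem NormProp.commute_of_subgroup {K : Subgroup G} (h : NormProp K) {t y g : G}
    (htK : t ∈ K) (hyK : y ∈ K) (hgK : g ∈ K) (ht : orderOf t = 2) (hy : Odd (orderOf y))
    (hy1 : y ≠ 1) (hc : Commute y t) (hg : Commute g y) : Commute g t := by
  have hgy : Commute (⟨g, hgK⟩ : K) ⟨y, hyK⟩ := Subtype.ext hg.eq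
  have h1 : (⟨g, hgK⟩ : K) ∈ normalizer (zpowers (⟨y, hyK⟩ : K) : Set K) := by
    refine centralizer_le_normalizer _ (mem_centralizer_iff.mpr ?_)
    rintro _ ⟨k, rfl⟩
    exact (hgy.zpow_right k).eq.symm
  rw [h.normalizer_odd (t := ⟨t, htK⟩) (by rw [Subgroup.orderOf_mk, ht])
    (by rwa [Subgroup.orderOf_mk]) (fun e => hy1 (congrArg Subtype.val e)) (Subtype.ext hc.eq)] at h1
  exact congrArg Subtype.val (mem_cent.mp h1).eq

end Inner

end Cfsg.Agent.Lib.CyclicNorm64
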