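import Cfsg.Agent.Lib.CyclicNorm64.Basic

/-!
# Sylow 2-subgroups: abelian or generalised dihedral
-/

set_option autoImplicit false

namespace Cfsg.Agent.Lib.CyclicNorm64

open Subgroup

universe u

variable {G : Type u} [Group G]

/-- `S` is generalised dihedral over the abelian subgroup `M`, which has an element of order 4. -/
structure GenDihedral (S M : Subgroup G) : Prop where
  le : M ≤ S
  comm : ∀ a ∈ M, ∀ b ∈ M, Commute a b
  root : ∃ x ∈ M, orderOf x = 4
  outside : ∃ i ∈ S, i ∉ M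
  invol : ∀ g ∈ S, g ∉ M → g * g = 1
  inv : ∀ g ∈ S, g ∉ M → ∀ m ∈ M, g * m * g⁻¹ = m⁻¹
  mul : ∀ g ∈ S, g ∉ M → ∀ g' ∈ S, g' ∉ M → g * g' ∈ M

theorem genDihedral_of_invol {S M : Subgroup G} (hle : M ≤ S) (hroot : ∃ x ∈ M, orderOf x = 4)
    (hout : ∃ i ∈ S, i ∉ M) (hinvol : ∀ g ∈ S, g ∉ M → g * g = 1)
    (hmul : ∀ g ∈ S, g ∉ M → ∀ g' ∈ S, g' ∉ M → g * g' ∈ M) : GenDihedral S M := by
  have hinv : ∀ g ∈ S, g ∉ M → ∀ m ∈ M, g * m * g⁻¹ = m⁻¹ := by
    intro g hg hgM m hm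
    have h1 := hinvol (g * m) (S.mul_mem hg (hle hm)) fun h => hgM (by
      simpa using M.mul_mem h (M.inv_mem hm))
    rw [inv_eq_of_mul_eq_one_right (hinvol g hg hgM)]
    exact eq_inv_of_mul_eq_one_left (by rwa [← mul_assoc] at h1)
  refine ⟨hle, fun a ha b hb => ?_, hroot, hout, hinvol, hinv, hmul⟩
  obtain ⟨i, hi, hiM⟩ := hout
  have h1 := hinv i hi hiM (a * b) (M.mul_mem ha hb)
  rw [show i * (a * b) * i⁻¹ = i * a * i⁻¹ * (i * b * i⁻¹) by group, hinv i hi hiM a ha,
    hinv i hi hiM b hb, ← mul_inv_rev, inv_inj] at h1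
  exact h1.symm

theorem GenDihedral.mem_of_mul_self_ne {S M : Subgroup G} (hD : GenDihedral S M) {g : G}
    (hg : g ∈ S) (hne : g * g ≠ 1) : g ∈ M :=
  Classical.byContradiction fun h => hne (hD.invol g hg h)

/-- The central elements of a generalised dihedral group are the involutions of `M`. -/
theorem GenDihedral.central_iff {S M : Subgroup G} (hD : GenDihedral S M) {z : G} (hz : z ∈ S) :
    (∀ g ∈ S, Commute g z) ↔ z ∈ M ∧ z * z = 1 := by
  constructor
  · intro hc
    have hzM : z ∈ M := by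
      by_contra hzM
      obtain ⟨x, hx, hx4⟩ := hD.root
      have h := hD.inv z hz hzM x hx
      rw [conj_of_commute (hc x (hD.le hx)).symm] at h
      have : orderOf x ∣ 2 := orderOf_dvd_of_pow_eq_one (by
        rw [pow_two]; exact (mul_eq_one_iff_eq_inv).mpr h)
      rw [hx4] at this
      exact absurd this (by decide)
    obtain ⟨i, hi, hiM⟩ := hD.outside
    have h := hD.inv i hi hiM z hzM
    rw [conj_of_commute (hc i hi)] at h
    exact ⟨hzM, mul_eq_one_iff_eq_inv.mpr h⟩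
  · rintro ⟨hzM, hz2⟩ g hg
    by_cases hgM : g ∈ M
    · exact hD.comm g hgM z hzM
    · refine commute_of_conj ?_
      rw [hD.inv g hg hgM z hzM]
      exact inv_eq_of_mul_eq_one_right hz2

variable [Finite G]

theorem orderOf_sq_of_four {x : G} (hx : orderOf x = 4) : orderOf (x ^ 2) = 2 := by
  rw [orderOf_pow_of_dvd two_ne_zero (by rw [hx]; decide), hx]

theorem mul_self_ne_one_of_four {x : G} (hx : orderOf x = 4) : x * x ≠ 1 := by
  rw [← pow_two]; exact Involution.ne_one (orderOf_sq_of_four hx)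

theorem inv_eq_of_four {x : G} (hx : orderOf x = 4) : x⁻¹ = x * x ^ 2 := by
  rw [← pow_succ']
  refine inv_eq_of_mul_eq_one_right ?_
  rw [← pow_succ', show 2 + 1 + 1 = orderOf x by rw [hx], pow_orderOf_eq_one]

/-- An element of order 4 whose square is `t`. -/
theorem orderOf_eq_four {x t : G} (ht : orderOf t = 2) (hx : x * x = t) : orderOf x = 4 := by
  refine orderOf_eq_prime_pow (p := 2) (n := 1) ?_ ?_
  · rw [show 2 ^ 1 = 2 by norm_num, pow_two, hx]; exact Involution.ne_one ht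
  · rw [show (2 : ℕ) ^ (1 + 1) = 2 * 2 by norm_num, pow_mul, pow_two x, hx, ← ht,
      pow_orderOf_eq_one]

section TwoGroup

variable {S : Subgroup G} (hS : IsPGroup 2 S)
include hS

theorem exists_root {a : G} (ha : a ∈ S) (ha2 : a * a ≠ 1) :
    ∃ r, r ∈ zpowers a ∧ orderOf r = 4 ∧ r ^ 2 ∈ zpowers (a * a) := by
  obtain ⟨k, hk⟩ := (IsPGroup.iff_orderOf.mp hS) ⟨a, ha⟩
  rw [Subgroup.orderOf_mk] at hk
  have h4 : 4 ∣ orderOf a := by
    rw [hk]
    rcases le_or_gt 2 k with h | h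
    · exact dvd_trans (by norm_num) (pow_dvd_pow 2 h)
    · exfalso
      apply ha2
      rw [← pow_two, ← orderOf_dvd_iff_pow_eq_one, hk]
      exact (pow_dvd_pow 2 (show k ≤ 1 by omega)).trans (dvd_refl _)
  refine ⟨a ^ (orderOf a / 4), pow_mem (mem_zpowers a) _,
    orderOf_pow_orderOf_div (orderOf_pos a).ne' h4, ?_⟩
  rw [← pow_mul, mul_comm, pow_mul, pow_two]
  exact pow_mem (mem_zpowers _) _

theorem exists_invol_mem {a : G} (ha : a ∈ S) (ha1 : a ≠ 1) :
    ∃ u, orderOf u = 2 ∧ u ∈ zpowers a := by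
  by_cases ha2 : a * a = 1
  · exact ⟨a, Involution.orderOf_eq_two ha2 ha1, mem_zpowers a⟩
  · obtain ⟨r, hr, hr4, -⟩ := exists_root hS ha ha2
    exact ⟨r ^ 2, orderOf_sq_of_four hr4, pow_mem hr 2⟩

variable (hn : ∀ x ∈ S, ∀ g ∈ S, ∀ u : G, orderOf u = 2 → u ∈ zpowers x → Commute g u →
  g * x * g⁻¹ ∈ zpowers x)
include hn

omit hS in
theorem root_conj {x g : G} (hx : x ∈ S) (hx4 : orderOf x = 4) (hg : g ∈ S)
    (hc : Commute g (x ^ 2)) : g * x * g⁻¹ = x ∨ g * x * g⁻¹ = x⁻¹ := by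
  have h := hn x hx g hg _ (orderOf_sq_of_four hx4) (pow_mem (mem_zpowers x) 2) hc
  have ho : orderOf (g * x * g⁻¹) = 4 := by rw [Involution.orderOf_conj_eq, hx4]
  rw [← mem_powers_iff_mem_zpowers] at h
  obtain ⟨k, hk⟩ := h
  simp only at hk
  rw [← hk, ← pow_mod_orderOf, hx4] at ho ⊢
  have hk4 : k % 4 < 4 := Nat.mod_lt _ (by norm_num)
  interval_cases hi : k % 4
  · simp at ho
  · simp
  · rw [orderOf_sq_of_four hx4] at ho
    exact absurd ho (by norm_num)
  · right
    rw [inv_eq_of_four hx4, ← pow_succ']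

/-- Elements with different involutions, each commuting with the other's involution, commute. -/
theorem commute_of_ne {a b u v : G} (ha : a ∈ S) (hb : b ∈ S) (hu : orderOf u = 2)
    (hv : orderOf v = 2) (hua : u ∈ zpowers a) (hvb : v ∈ zpowers b) (huv : u ≠ v)
    (hav : Commute a v) (hbu : Commute b u) : Commute a b := by
  refine commute_of_normalize_of_inf_bot (hn a ha b hb u hu hua hbu) (hn b hb a ha v hv hvb hav)
    fun c hca hcb => ?_
  by_contra hc
  obtain ⟨w, hw, hwc⟩ := exists_invol_mem hS ((zpowers_le.mpr ha) hca) hc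
  exact huv ((Involution.eq_of_mem_zpowers hu hw hua ((zpowers_le.mpr hca) hwc)).trans
    (Involution.eq_of_mem_zpowers hw hv ((zpowers_le.mpr hcb) hwc) hvb))

/-- A central involution which is a square. -/
theorem exists_central_root (hne : ∃ y ∈ S, orderOf y = 4) :
    ∃ x ∈ S, orderOf x = 4 ∧ ∀ g ∈ S, Commute g (x ^ 2) := by
  classical
  obtain ⟨y, ⟨hy, hy4⟩, hmax⟩ := Set.exists_max_image {y | y ∈ S ∧ orderOf y = 4}
    (fun y => Nat.card (S ⊓ cent (y ^ 2) : Subgroup G)) (Set.toFinite _)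
    (by obtain ⟨y, hy, hy4⟩ := hne; exact ⟨y, hy, hy4⟩)
  refine ⟨y, hy, hy4, fun g hg => ?_⟩
  by_contra hgu
  set u := y ^ 2 with hu
  set C : Subgroup G := S ⊓ cent u with hC
  have hCS : C ≤ S := inf_le_left
  have hmem : ∀ c, c ∈ C ↔ c ∈ S ∧ Commute c u := fun c => by rw [hC, mem_inf, mem_cent]
  have : Group.IsNilpotent S := hS.isNilpotent
  have hlt : C.subgroupOf S < normalizer (C.subgroupOf S : Set S) := by
    refine Group.normalizerCondition_of_isNilpotent _ (lt_top_iff_ne_top.mpr fun htop => hgu ?_)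
    have : (⟨g, hg⟩ : S) ∈ C.subgroupOf S := htop ▸ mem_top _
    exact ((hmem g).mp (mem_subgroupOf.mp this)).2
  obtain ⟨n₀, hn₀, hn₀C⟩ := SetLike.exists_of_lt hlt
  -- an element whose square is in `C`
  have hex : ∃ j : ℕ, ((n₀ : G) ^ 2 ^ j) ∈ C := by
    obtain ⟨k, hk⟩ := hS n₀
    refine ⟨k, ?_⟩
    rw [← Subgroup.coe_pow, hk, Subgroup.coe_one]
    exact C.one_mem
  have hj0 : Nat.find hex ≠ 0 := by
    intro h0
    have := Nat.find_spec hex
    rw [h0, pow_zero, pow_one] at this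
    exact hn₀C (mem_subgroupOf.mpr this)
  obtain ⟨j, hj⟩ := Nat.exists_eq_succ_of_ne_zero hj0
  have hnC : (n₀ : G) ^ 2 ^ j ∉ C := Nat.find_min hex (by omega)
  have hn2 : (n₀ : G) ^ 2 ^ j * (n₀ : G) ^ 2 ^ j ∈ C := by
    have := Nat.find_spec hex
    rw [hj, pow_succ, pow_mul, pow_two] at this
    exact this
  have hnN : ∀ c ∈ C, (n₀ : G) ^ 2 ^ j * c * ((n₀ : G) ^ 2 ^ j)⁻¹ ∈ C ∧
      ((n₀ : G) ^ 2 ^ j)⁻¹ * c * (n₀ : G) ^ 2 ^ j ∈ C := by
    intro c hc
    have hN : n₀ ^ 2 ^ j ∈ normalizer (C.subgroupOf S : Set S) := pow_mem hn₀ _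
    have hcS : (⟨c, hCS hc⟩ : S) ∈ C.subgroupOf S := mem_subgroupOf.mpr hc
    refine ⟨?_, ?_⟩
    · simpa [mem_subgroupOf] using (mem_normalizer_iff.mp hN ⟨c, hCS hc⟩).mp hcS
    · simpa [mem_subgroupOf] using (mem_normalizer_iff''.mp hN ⟨c, hCS hc⟩).mp hcS
  set n : G := (n₀ : G) ^ 2 ^ j with hn'
  have hnS : n ∈ S := S.pow_mem n₀.2 _
  have hyC : y ∈ C := (hmem y).mpr ⟨hy, (Commute.refl y).pow_right 2⟩
  have hu2 : orderOf u = 2 := orderOf_sq_of_four hy4
  set v := n * u * n⁻¹ with hv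
  have hv2 : orderOf v = 2 := by rw [hv, Involution.orderOf_conj_eq, hu2]
  have huv : u ≠ v := fun h => hnC ((hmem n).mpr ⟨hnS, commute_of_conj h.symm⟩)
  have hCv : ∀ c ∈ C, Commute c v := by
    intro c hc
    have h1 : n⁻¹ * c * n * u = u * (n⁻¹ * c * n) := ((hmem _).mp (hnN c hc).2).2
    show c * (n * u * n⁻¹) = n * u * n⁻¹ * c
    calc c * (n * u * n⁻¹) = n * (n⁻¹ * c * n * u) * n⁻¹ := by group
      _ = n * (u * (n⁻¹ * c * n)) * n⁻¹ := by rw [h1]
      _ = n * u * n⁻¹ * c := by group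
  set z := n * y * n⁻¹ with hz
  have hzC : z ∈ C := (hnN y hyC).1
  have hz2 : z ^ 2 = v := by rw [hz, conj_pow]
  have hyz : Commute y z := commute_of_ne hS hn hy (hCS hzC) hu2 hv2 (pow_mem (mem_zpowers y) 2)
    (hz2 ▸ pow_mem (mem_zpowers z) 2) huv (hCv y hyC) ((hmem z).mp hzC).2
  have huvc : Commute u v := hCv u (by
    exact (hmem u).mpr ⟨S.pow_mem hy 2, Commute.refl u⟩)
  have hw2 : orderOf (u * v) = 2 := by
    refine Involution.orderOf_eq_two ?_ fun h => huv ?_
    · rw [huvc.symm.mul_mul_mul_comm, Involution.mul_self_eq_one hu2,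
        Involution.mul_self_eq_one hv2, one_mul]
    · exact (mul_eq_one_iff_eq_inv.mp h).trans
        (Involution.inv_eq_self (Involution.mul_self_eq_one hv2))
  have hyz2 : (y * z) ^ 2 = u * v := by rw [hyz.mul_pow, hz2, hu]
  have hroot : y * z ∈ {y | y ∈ S ∧ orderOf y = 4} :=
    ⟨S.mul_mem hy (hCS hzC), orderOf_eq_four hw2 (by rw [← pow_two, hyz2])⟩
  have hn2u : n * v * n⁻¹ = u := by
    rw [hv, show n * (n * u * n⁻¹) * n⁻¹ = n * n * u * (n * n)⁻¹ by group]
    exact conj_of_commute ((hmem _).mp hn2).2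
  have hlt2 : C < S ⊓ cent ((y * z) ^ 2) := by
    refine lt_of_le_of_ne (le_inf hCS fun c hc => mem_cent.mpr ?_) fun heq => hnC ?_
    · rw [hyz2]; exact ((hmem c).mp hc).2.mul_right (hCv c hc)
    · rw [heq, mem_inf, mem_cent]
      refine ⟨hnS, commute_of_conj ?_⟩
      rw [hyz2, show n * (u * v) * n⁻¹ = n * u * n⁻¹ * (n * v * n⁻¹) by group, hn2u]
      exact huvc.symm.eq
  have := hmax _ hroot
  exact absurd this (not_le.mpr (Set.ncard_lt_ncard (SetLike.coe_ssubset_coe.mpr hlt2)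
    (Set.toFinite _)))

/-- If a root of a central involution is not central and some root has a different square, the
group is generalised dihedral. -/
theorem genDihedral_of_two_roots {x y : G} (hx : x ∈ S) (hx4 : orderOf x = 4)
    (hxc : ∀ g ∈ S, Commute g (x ^ 2)) (hxn : ∃ g ∈ S, ¬ Commute g x) (hy : y ∈ S)
    (hy4 : orderOf y = 4) (hne : y ^ 2 ≠ x ^ 2) : GenDihedral S (S ⊓ cent x) := by
  set t := x ^ 2 with ht
  have ht2 : orderOf t = 2 := orderOf_sq_of_four hx4
  set u := y ^ 2 with hu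
  have hu2 : orderOf u = 2 := orderOf_sq_of_four hy4
  have hmem : ∀ g, g ∈ S ⊓ cent x ↔ g ∈ S ∧ Commute g x := fun g => by rw [mem_inf, mem_cent]
  have hflip : ∀ g ∈ S, g ∉ S ⊓ cent x → g * x * g⁻¹ = x⁻¹ := fun g hg hgM =>
    (root_conj hn hx hx4 hg (hxc g hg)).resolve_left fun h =>
      hgM ((hmem g).mpr ⟨hg, commute_of_conj h⟩)
  have hgg : ∀ g ∈ S, g ∉ S ⊓ cent x → Commute (g * g) x := by
    intro g hg hgM
    refine commute_of_conj ?_
    rw [show g * g * x * (g * g)⁻¹ = g * (g * x * g⁻¹) * g⁻¹ by group, hflip g hg hgM,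
      ← conj_inv, hflip g hg hgM, inv_inv]
  have hout : ∀ g ∈ S, g ∉ S ⊓ cent x → g * g ≠ 1 → t ∈ zpowers (g * g) := by
    intro g hg hgM hg2
    obtain ⟨r, hr, hr4, hr2⟩ := exists_root hS hg hg2
    by_cases hrt : r ^ 2 = t
    · rwa [← hrt]
    · exfalso
      refine hgM ((hmem g).mpr ⟨hg, commute_of_ne hS hn hg hx (orderOf_sq_of_four hr4) ht2
        (pow_mem hr 2) (pow_mem (mem_zpowers x) 2) hrt (hxc g hg) ?_⟩)
      obtain ⟨k, hk⟩ := hr2
      rw [← hk]; exact (hgg g hg hgM).symm.zpow_right k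
  have hyM : y ∈ S ⊓ cent x := by
    by_contra h
    have := hout y hy h (mul_self_ne_one_of_four hy4)
    rw [← pow_two] at this
    exact hne (Involution.eq_of_mem_zpowers hu2 ht2 (mem_zpowers _) this)
  have hxy : Commute x y := ((hmem y).mp hyM).2.symm
  have hux : Commute u x := hxy.symm.pow_left 2
  refine genDihedral_of_invol inf_le_left ⟨x, (hmem x).mpr ⟨hx, Commute.refl x⟩, hx4⟩ ?_ ?_ ?_
  · obtain ⟨g, hg, hgx⟩ := hxn
    exact ⟨g, hg, fun h => hgx ((hmem g).mp h).2⟩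
  · intro g hg hgM
    by_contra hg2
    have htg : t ∈ zpowers g := (zpowers_le.mpr (pow_two g ▸ pow_mem (mem_zpowers g) 2))
      (hout g hg hgM hg2)
    -- the image of `u`
    have hxu : orderOf (x * u) = 4 := orderOf_eq_four ht2 (by
      rw [hux.mul_mul_mul_comm, Involution.mul_self_eq_one hu2, mul_one, ← pow_two])
    have hxu2 : (x * u) ^ 2 = t := by
      rw [hux.symm.mul_pow, pow_two u, Involution.mul_self_eq_one hu2, mul_one]
    have himg : g * u * g⁻¹ = t * u ∨ g * u * g⁻¹ = u := by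
      have h1 : g * u * g⁻¹ = x * (g * (x * u) * g⁻¹) := by
        rw [show g * (x * u) * g⁻¹ = g * x * g⁻¹ * (g * u * g⁻¹) by group, hflip g hg hgM,
          mul_inv_cancel_left]
      rcases root_conj hn (S.mul_mem hx (S.pow_mem hy 2)) hxu hg
          (by rw [hxu2]; exact hxc g hg) with h | h
      · exact Or.inl (by rw [h1, h, ← mul_assoc, ← pow_two, ← ht])
      · exact Or.inr (by
          rw [h1, h, mul_inv_rev, ← mul_assoc,
            Involution.inv_eq_self (Involution.mul_self_eq_one hu2), hux.symm.eq,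
            mul_inv_cancel_right])
    rcases himg with hmv | hfix
    · -- `g` moves `u`
      have hg2u : Commute (g * g) u := by
        refine commute_of_conj ?_
        rw [show g * g * u * (g * g)⁻¹ = g * (g * u * g⁻¹) * g⁻¹ by group, hmv,
          show g * (t * u) * g⁻¹ = g * t * g⁻¹ * (g * u * g⁻¹) by group,
          conj_of_commute (hxc g hg), hmv, ← mul_assoc, Involution.mul_self_eq_one ht2, one_mul]
      have hgy : Commute (g * g) y := commute_of_ne hS hn (S.mul_mem hg hg) hy ht2 hu2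
        (hout g hg hgM hg2) (pow_mem (mem_zpowers y) 2) (Ne.symm hne) hg2u (hxc y hy)
      set e : G := g⁻¹ * (y * g * y⁻¹) with he
      have heg : e ∈ zpowers g := (zpowers g).mul_mem ((zpowers g).inv_mem (mem_zpowers g))
        (hn g hg y hy t ht2 htg (hxc y hy))
      have hge : Commute g e := by
        obtain ⟨k, hk⟩ := heg
        rw [← hk]; exact (Commute.refl g).zpow_right k
      have hyg : y * g * y⁻¹ = g * e := by rw [he, mul_inv_cancel_left]
      have he2 : e * e = 1 := by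
        have h1 : y * g * y⁻¹ * (y * g * y⁻¹) = g * g := by
          rw [show y * g * y⁻¹ * (y * g * y⁻¹) = y * (g * g) * y⁻¹ by group,
            conj_of_commute hgy.symm]
        rw [hyg, hge.symm.mul_mul_mul_comm] at h1
        exact mul_eq_left.mp h1
      have hye : Commute y e := by
        rcases eq_or_ne e 1 with he1 | he1
        · rw [he1]; exact Commute.one_right y
        · rw [Involution.eq_of_mem_zpowers (Involution.orderOf_eq_two he2 he1) ht2 heg htg]
          exact hxc y hy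
      have hug : Commute u g := by
        refine commute_of_conj ?_
        rw [hu, pow_two, show y * y * g * (y * y)⁻¹ = y * (y * g * y⁻¹) * y⁻¹ by group, hyg,
          show y * (g * e) * y⁻¹ = y * g * y⁻¹ * (y * e * y⁻¹) by group, hyg,
          conj_of_commute hye, mul_assoc, he2, mul_one]
      rw [conj_of_commute hug.symm] at hmv
      exact Involution.ne_one ht2 (right_eq_mul.mp hmv)
    · -- `g` fixes `u`
      have hgu : Commute g u := commute_of_conj hfix
      have hgy : Commute g y := commute_of_ne hS hn hg hy ht2 hu2 htg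
        (pow_mem (mem_zpowers y) 2) (Ne.symm hne) hgu (hxc y hy)
      have hxy2 : (x * y) ^ 2 = t * u := by rw [hxy.mul_pow, ← ht, ← hu]
      have htu : Commute t u := hxc u (S.pow_mem hy 2) |>.symm
      have hxy4 : orderOf (x * y) = 4 := by
        refine orderOf_eq_four (t := t * u) (Involution.orderOf_eq_two ?_ fun h => hne ?_)
          (by rw [← pow_two, hxy2])
        · rw [htu.symm.mul_mul_mul_comm, Involution.mul_self_eq_one ht2,
            Involution.mul_self_eq_one hu2, one_mul]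
        · exact (eq_inv_of_mul_eq_one_right h).trans
            (Involution.inv_eq_self (Involution.mul_self_eq_one ht2))
      rcases root_conj hn (S.mul_mem hx hy) hxy4 hg
          (by rw [hxy2]; exact (hxc g hg).mul_right hgu) with h | h
      all_goals rw [show g * (x * y) * g⁻¹ = g * x * g⁻¹ * (g * y * g⁻¹) by group,
        hflip g hg hgM, conj_of_commute hgy] at h
      · exact mul_self_ne_one_of_four hx4 (mul_eq_one_iff_eq_inv.mpr (mul_right_cancel h).symm)
      · rw [mul_inv_rev, hxy.symm.inv_inv.eq] at h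
        exact mul_self_ne_one_of_four hy4 (mul_eq_one_iff_eq_inv.mpr (mul_left_cancel h))
  · intro g hg hgM g' hg' hgM'
    refine (hmem _).mpr ⟨S.mul_mem hg hg', commute_of_conj ?_⟩
    rw [show g * g' * x * (g * g')⁻¹ = g * (g' * x * g'⁻¹) * g⁻¹ by group, hflip g' hg' hgM',
      ← conj_inv, hflip g hg hgM, inv_inv]

/-- The trichotomy. -/
theorem cases_two_group :
    (∀ a ∈ S, ∀ b ∈ S, Commute a b) ∨ (∃ M, GenDihedral S M) ∨
      ∃ x ∈ S, orderOf x = 4 ∧ (∀ g ∈ S, Commute g (x ^ 2)) ∧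
        ∀ y ∈ S, orderOf y = 4 → y ^ 2 = x ^ 2 := by
  by_cases hroots : ∃ y ∈ S, orderOf y = 4
  swap
  · refine Or.inl fun a ha b hb => ?_
    have hall : ∀ c ∈ S, c * c = 1 := fun c hc => by
      by_contra h
      obtain ⟨r, hr, hr4, -⟩ := exists_root hS hc h
      exact hroots ⟨r, (zpowers_le.mpr hc) hr, hr4⟩
    show a * b = b * a
    rw [← inv_eq_of_mul_eq_one_right (hall _ (S.mul_mem ha hb)), mul_inv_rev,
      inv_eq_of_mul_eq_one_right (hall a ha), inv_eq_of_mul_eq_one_right (hall b hb)]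
  obtain ⟨x, hx, hx4, hxc⟩ := exists_central_root hS hn hroots
  by_cases hall : ∀ y ∈ S, orderOf y = 4 → y ^ 2 = x ^ 2
  · exact Or.inr (Or.inr ⟨x, hx, hx4, hxc, hall⟩)
  push Not at hall
  obtain ⟨y, hy, hy4, hne⟩ := hall
  by_cases hcr : ∀ r ∈ S, orderOf r = 4 → (∀ g ∈ S, Commute g (r ^ 2)) → ∀ g ∈ S, Commute g r
  swap
  · push Not at hcr
    obtain ⟨r, hr, hr4, hrc, hrn⟩ := hcr
    by_cases hyr : y ^ 2 = r ^ 2
    · exact Or.inr (Or.inl ⟨_, genDihedral_of_two_roots hS hn hr hr4 hrc hrn hx hx4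
        fun h => hne (hyr.trans h.symm)⟩)
    · exact Or.inr (Or.inl ⟨_, genDihedral_of_two_roots hS hn hr hr4 hrc hrn hy hy4 hyr⟩)
  -- all involutions are central
  have hinv : ∀ s ∈ S, s * s = 1 → ∀ g ∈ S, Commute g s := by
    intro s hs hs2 g hg
    have hxs : Commute x s := (hcr x hx hx4 hxc s hs).symm
    have h2 : (x * s) ^ 2 = x ^ 2 := by rw [hxs.mul_pow, pow_two s, hs2, mul_one]
    have h4 : orderOf (x * s) = 4 :=
      orderOf_eq_four (orderOf_sq_of_four hx4) (by rw [← pow_two, h2])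
    have := (hcr x hx hx4 hxc g hg).inv_right.mul_right
      (hcr _ (S.mul_mem hx hs) h4 (by rw [h2]; exact hxc) g hg)
    rwa [inv_mul_cancel_left] at this
  refine Or.inl (commute_of_all_normalize S hS (fun a ha b hb => ?_) fun _ a ha b hb ha4 => ?_)
  · rcases eq_or_ne a 1 with rfl | ha1
    · simp
    obtain ⟨u, hu2, hua⟩ := exists_invol_mem hS ha ha1
    exact hn a ha b hb u hu2 hua
      (hinv u ((zpowers_le.mpr ha) hua) (Involution.mul_self_eq_one hu2) b hb)
  · by_cases ha2 : a * a = 1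
    · exact (hinv a ha ha2 b hb).symm
    · have h2 : (a * a) * (a * a) = 1 := by
        rw [← ha4, pow_succ, pow_succ, pow_two]; simp [mul_assoc]
      have h4 : orderOf a = 4 := orderOf_eq_four (Involution.orderOf_eq_two h2 ha2) rfl
      exact (hcr a ha h4 (fun g hg => hinv _ (S.pow_mem ha 2)
        (by rw [pow_two]; exact h2) g hg) b hb).symm

/-- A unique square involution with another involution having elementary centraliser gives a
generalised dihedral group. -/
theorem genDihedral_of_unique_root {x s : G} (hx : x ∈ S) (hx4 : orderOf x = 4)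
    (hxc : ∀ g ∈ S, Commute g (x ^ 2)) (hall : ∀ y ∈ S, orderOf y = 4 → y ^ 2 = x ^ 2)
    (hs : s ∈ S) (hs2 : orderOf s = 2) (hsC : ∀ a ∈ S, Commute a s → a * a = 1) :
    GenDihedral S (S ⊓ cent x) := by
  set t := x ^ 2 with ht
  have ht2 : orderOf t = 2 := orderOf_sq_of_four hx4
  have hmem : ∀ g, g ∈ S ⊓ cent x ↔ g ∈ S ∧ Commute g x := fun g => by rw [mem_inf, mem_cent]
  have hss : s * s = 1 := Involution.mul_self_eq_one hs2
  have hsi : s⁻¹ = s := Involution.inv_eq_self hss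
  have hsM : s ∉ S ⊓ cent x := fun h =>
    mul_self_ne_one_of_four hx4 (hsC x hx ((hmem s).mp h).2.symm)
  have hsx : s * x * s⁻¹ = x⁻¹ := (root_conj hn hx hx4 hs (hxc s hs)).resolve_left fun h =>
    hsM ((hmem s).mpr ⟨hs, commute_of_conj h⟩)
  -- involutions of `M`
  have hinvol : ∀ m ∈ S ⊓ cent x, m * m = 1 → s * m * s⁻¹ = m := by
    intro m hm hm2
    obtain ⟨hmS, hmx⟩ := (hmem m).mp hm
    have h2 : (x * m) ^ 2 = t := by rw [hmx.symm.mul_pow, pow_two m, hm2, mul_one]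
    have h4 : orderOf (x * m) = 4 := orderOf_eq_four ht2 (by rw [← pow_two, h2])
    rcases root_conj hn (S.mul_mem hx hmS) h4 hs (by rw [h2]; exact hxc s hs) with h | h
    · exact absurd (hsC _ (S.mul_mem hx hmS) (commute_of_conj h).symm)
        (mul_self_ne_one_of_four h4)
    · rw [show s * (x * m) * s⁻¹ = s * x * s⁻¹ * (s * m * s⁻¹) by group, hsx, mul_inv_rev,
        hmx.inv_inv.eq] at h
      rw [mul_left_cancel h, Involution.inv_eq_self hm2]
  have hroot : ∀ r ∈ S ⊓ cent x, orderOf r = 4 → s * r * s⁻¹ = r⁻¹ := by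
    intro r hr hr4
    obtain ⟨hrS, hrx⟩ := (hmem r).mp hr
    have h1 := hinvol (r * x) ((hmem _).mpr ⟨S.mul_mem hrS hx, hrx.mul_left (Commute.refl x)⟩) (by
      rw [← pow_two, hrx.mul_pow, hall r hrS hr4, ← ht, Involution.mul_self_eq_one ht2])
    rw [show s * (r * x) * s⁻¹ = s * r * s⁻¹ * (s * x * s⁻¹) by group, hsx] at h1
    have h2 := mul_inv_eq_iff_eq_mul.mp h1
    rw [mul_assoc r x x, ← pow_two, ← ht, ← hall r hrS hr4] at h2
    rw [h2, inv_eq_of_four hr4]
  have hsM' : ∀ m ∈ S ⊓ cent x, s * m * s⁻¹ ∈ S ⊓ cent x := by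
    intro m hm
    obtain ⟨hmS, hmx⟩ := (hmem m).mp hm
    refine (hmem _).mpr ⟨S.mul_mem (S.mul_mem hs hmS) (S.inv_mem hs), ?_⟩
    have h := (hmx.inv_right : Commute m x⁻¹)
    show s * m * s⁻¹ * x = x * (s * m * s⁻¹)
    calc s * m * s⁻¹ * x = s * (m * (s⁻¹ * x * s)) * s⁻¹ := by group
      _ = s * (m * (s * x * s⁻¹)) * s⁻¹ := by rw [hsi]
      _ = s * (x⁻¹ * m) * s⁻¹ := by rw [hsx, h.eq]
      _ = (s * x * s⁻¹)⁻¹ * (s * m * s⁻¹) := by group
      _ = x * (s * m * s⁻¹) := by rw [hsx, inv_inv]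
  have hall' : ∀ m ∈ S ⊓ cent x, s * m * s⁻¹ = m⁻¹ := by
    intro m hm
    obtain ⟨hmS, hmx⟩ := (hmem m).mp hm
    by_cases hm2 : m * m = 1
    · rw [hinvol m hm hm2, Involution.inv_eq_self hm2]
    obtain ⟨r, hr, hr4, -⟩ := exists_root hS hmS hm2
    have htm : t ∈ zpowers m := hall r ((zpowers_le.mpr hmS) hr) hr4 ▸ pow_mem hr 2
    set m' := s * m * s⁻¹ with hm'
    have hm'z : m' ∈ zpowers m := hn m hmS s hs t ht2 htm (hxc s hs)
    have hmm' : Commute m m' := by
      obtain ⟨k, hk⟩ := hm'z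
      rw [← hk]; exact (Commute.refl m).zpow_right k
    have he : Commute s (m * m') := by
      refine commute_of_conj ?_
      rw [hm', show s * (m * (s * m * s⁻¹)) * s⁻¹ = s * m * (s * m * (s⁻¹ * s⁻¹)) by group,
        hsi, hss, mul_one]
      have h1 : s * m * (s * m) = m' * m := by
        rw [hm', hsi]; group
      have h2 : s * m * s = m' := by rw [hm', hsi]
      rw [h1, h2]
      exact hmm'.symm.eq
    have hmm'M : m * m' ∈ S ⊓ cent x := mul_mem hm (hsM' m hm)
    have he2 : m * m' * (m * m') = 1 := hsC _ (mem_inf.mp hmm'M).1 he.symm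
    rcases eq_or_ne (m * m') 1 with he1 | he1
    · exact eq_inv_of_mul_eq_one_right he1
    exfalso
    have het : m * m' = t := Involution.eq_of_mem_zpowers (Involution.orderOf_eq_two he2 he1) ht2
      ((zpowers m).mul_mem (mem_zpowers m) hm'z) htm
    -- `s * m` has square `t`
    have hsm : s * m * (s * m) = t := by
      calc s * m * (s * m) = (s * m * s) * m := by group
        _ = m' * m := by rw [hm', hsi]
        _ = t := by rw [← hmm'.eq, het]
    have hsm4 := orderOf_eq_four ht2 hsm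
    have hconj : m * (s * m) * m⁻¹ = m * s := by group
    rcases root_conj hn (S.mul_mem hs hmS) hsm4 hmS (by
        rw [pow_two, hsm]; exact hxc m hmS) with h | h
    · -- `m` would commute with `s`
      rw [hconj] at h
      exact hm2 (hsC m hmS h)
    · rw [hconj, inv_eq_of_four hsm4, pow_two, hsm] at h
      have h2 : m' = m * t := by
        rw [hm', hsi, mul_assoc, h, ← mul_assoc, ← mul_assoc, hss, one_mul]
      rw [h2, ← mul_assoc] at het
      exact hm2 (mul_eq_right.mp het)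
  refine genDihedral_of_invol inf_le_left ⟨x, (hmem x).mpr ⟨hx, Commute.refl x⟩, hx4⟩
    ⟨s, hs, hsM⟩ (fun g hg hgM => ?_) fun g hg hgM g' hg' hgM' => ?_
  · have hgx : g * x * g⁻¹ = x⁻¹ := (root_conj hn hx hx4 hg (hxc g hg)).resolve_left fun h =>
      hgM ((hmem g).mpr ⟨hg, commute_of_conj h⟩)
    have hm : g * s ∈ S ⊓ cent x := by
      refine (hmem _).mpr ⟨S.mul_mem hg hs, commute_of_conj ?_⟩
      rw [show g * s * x * (g * s)⁻¹ = g * (s * x * s⁻¹) * g⁻¹ by group, hsx, ← conj_inv, hgx,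
        inv_inv]
    have h := hall' _ hm
    have hg' : g = g * s * s := by rw [mul_assoc, hss, mul_one]
    rw [hg', show g * s * s * (g * s * s) = g * s * (s * (g * s) * s) by group]
    nth_rw 4 [← hsi]
    rw [h, mul_inv_cancel]
  · have hx1 : ∀ k ∈ S, k ∉ S ⊓ cent x → k * x * k⁻¹ = x⁻¹ := fun k hk hkM =>
      (root_conj hn hx hx4 hk (hxc k hk)).resolve_left fun h =>
        hkM ((hmem k).mpr ⟨hk, commute_of_conj h⟩)
    refine (hmem _).mpr ⟨S.mul_mem hg hg', commute_of_conj ?_⟩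
    rw [show g * g' * x * (g * g')⁻¹ = g * (g' * x * g'⁻¹) * g⁻¹ by group, hx1 g' hg' hgM',
      ← conj_inv, hx1 g hg hgM, inv_inv]

end TwoGroup

theorem isPGroup_sylow (P : Sylow 2 G) : IsPGroup 2 (P : Subgroup G) := P.2

/-- A 2-element of a subgroup containing a Sylow subgroup is conjugate into it there. -/
theorem exists_conj_mem_sylow (P : Sylow 2 G) {K : Subgroup G} (hPK : (P : Subgroup G) ≤ K)
    {r : G} (hr : r ∈ K) (hr2 : IsPGroup 2 (zpowers r)) :
    ∃ c ∈ K, c * r * c⁻¹ ∈ (P : Subgroup G) := by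
  have : Fact (Nat.Prime 2) := ⟨Nat.prime_two⟩
  have hR : IsPGroup 2 ((zpowers r).subgroupOf K) :=
    hr2.of_equiv (subgroupOfEquivOfLe (zpowers_le.mpr hr)).symm
  obtain ⟨Q, hQ⟩ := hR.exists_le_sylow
  obtain ⟨c, hc⟩ := MulAction.exists_smul_eq K Q (P.subtype hPK)
  refine ⟨c, c.2, ?_⟩
  have h1 : MulAut.conj c • (⟨r, hr⟩ : K) ∈ ((c • Q : Sylow 2 K) : Subgroup K) := by
    rw [Sylow.smul_def]
    exact ⟨⟨r, hr⟩, hQ (mem_subgroupOf.mpr (mem_zpowers r)), rfl⟩
  rw [hc] at h1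
  exact h1

/-- The structure of a Sylow 2-subgroup, given fusion of its central involutions. -/
theorem sylow_structure (h : NormProp G) (P : Sylow 2 G)
    (hfus : ∀ t ∈ (P : Subgroup G), orderOf t = 2 → (∀ g ∈ (P : Subgroup G), Commute g t) →
      ∃ g : G, g * t * g⁻¹ ∈ (P : Subgroup G) ∧ g * t * g⁻¹ ≠ t) :
    (∀ a ∈ (P : Subgroup G), ∀ b ∈ (P : Subgroup G), Commute a b) ∨
      ∃ M, GenDihedral (P : Subgroup G) M := by
  have hn : ∀ x ∈ (P : Subgroup G), ∀ g ∈ (P : Subgroup G), ∀ u : G, orderOf u = 2 →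
      u ∈ zpowers x → Commute g u → g * x * g⁻¹ ∈ zpowers x :=
    fun x _ g _ u hu hux hgu => h.conj_mem hu hux hgu
  rcases cases_two_group (isPGroup_sylow P) hn with hab | hD | ⟨x, hx, hx4, hxc, hall⟩
  · exact Or.inl hab
  · exact Or.inr hD
  obtain ⟨g, hg, hgne⟩ := hfus (x ^ 2) (pow_mem hx 2) (orderOf_sq_of_four hx4) hxc
  refine Or.inr ⟨_, genDihedral_of_unique_root (isPGroup_sylow P) hn hx hx4 hxc hall hg
    (by rw [Involution.orderOf_conj_eq, orderOf_sq_of_four hx4]) fun a ha hca => ?_⟩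
  by_contra ha2
  obtain ⟨r, hr, hr4, -⟩ := exists_root (isPGroup_sylow P) ha ha2
  have hrP : r ∈ (P : Subgroup G) := (zpowers_le.mpr ha) hr
  have hrt := hall r hrP hr4
  obtain ⟨k, hk⟩ := hr
  have hrc : Commute r (g * x ^ 2 * g⁻¹) := by rw [← hk]; exact hca.zpow_left k
  have hPC : (P : Subgroup G) ≤ cent (x ^ 2) := fun a ha => mem_cent.mpr (hxc a ha)
  have hr0 : g⁻¹ * r * g ∈ cent (x ^ 2) := mem_cent.mpr (by
    show g⁻¹ * r * g * x ^ 2 = x ^ 2 * (g⁻¹ * r * g)
    calc g⁻¹ * r * g * x ^ 2 = g⁻¹ * (r * (g * x ^ 2 * g⁻¹)) * g := by group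
      _ = g⁻¹ * (g * x ^ 2 * g⁻¹ * r) * g := by rw [hrc.eq]
      _ = x ^ 2 * (g⁻¹ * r * g) := by group)
  have hr04 : orderOf (g⁻¹ * r * g) = 4 := by
    rw [show g⁻¹ * r * g = g⁻¹ * r * g⁻¹⁻¹ by rw [inv_inv], Involution.orderOf_conj_eq, hr4]
  obtain ⟨c, hc, hcP⟩ := exists_conj_mem_sylow P hPC hr0 (IsPGroup.of_card (n := 2) (by
    rw [Nat.card_zpowers, hr04]; norm_num))
  have h1 := hall _ hcP (by rw [Involution.orderOf_conj_eq, hr04])
  rw [conj_pow, show g⁻¹ * r * g = g⁻¹ * r * g⁻¹⁻¹ by rw [inv_inv], conj_pow, inv_inv, hrt] at h1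
  have h2 : g⁻¹ * x ^ 2 * g = x ^ 2 := by
    have h3 : c * x ^ 2 * c⁻¹ = x ^ 2 := conj_of_commute (mem_cent.mp hc)
    exact mul_left_cancel (mul_right_cancel (h1.trans h3.symm))
  apply hgne
  have h4 : g * (g⁻¹ * x ^ 2 * g) * g⁻¹ = x ^ 2 := by group
  rwa [h2] at h4

end Cfsg.Agent.Lib.CyclicNorm64
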